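import Groth.Agent.Lib.CycDet.Omega

/-!
# Chains over `R` inside a module over `R_q`
-/

set_option autoImplicit false
set_option linter.unusedSectionVars false

universe u

namespace Groth.Agent.Lib.CycDet.Omega

open IsLocalRing Groth.Agent.Lib.CycDet Groth.Agent.Lib.Cyc.Retr.Idx

variable {R : Type u} [CommRing R] [IsNoetherianRing R] [IsLocalRing R] {q : PrimeSpectrum R}
  {V : Type u} [AddCommGroup V] [Module (Localization.AtPrime q.asIdeal) V] [Module R V]
  [IsScalarTower R (Localization.AtPrime q.asIdeal) V] {l : ℕ} {z : Fin l → V}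

local notation "Rq" => Localization.AtPrime q.asIdeal

theorem mem_of_smul_mem {F : Submodule Rq V} {t : R} (ht : t ∉ q.asIdeal) {v : V} (h : t • v ∈ F) : v ∈ F := by
  have := F.smul_mem (↑((isUnit_map_iff.2 ht).unit⁻¹) : Rq) h
  rwa [← algebraMap_smul Rq t v, smul_smul, IsUnit.val_inv_mul, one_smul] at this

theorem spanBefore_le (i : ℕ) :
    _root_.CycDet.spanBefore R V z i ≤ (_root_.CycDet.spanBefore Rq V z i).restrictScalars R :=
  Submodule.span_le.2 (Submodule.subset_span : _ ⊆ (_root_.CycDet.spanBefore Rq V z i : Set V))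

theorem exists_smul_mem_spanBefore {i : ℕ} {v : V} (hv : v ∈ _root_.CycDet.spanBefore Rq V z i) :
    ∃ t ∉ q.asIdeal, t • v ∈ _root_.CycDet.spanBefore R V z i := by
  unfold _root_.CycDet.spanBefore at hv ⊢
  induction hv using Submodule.span_induction with
  | mem x hx => exact ⟨1, fun h => q.2.ne_top ((Ideal.eq_top_iff_one _).2 h), by rw [one_smul]; exact Submodule.subset_span hx⟩
  | zero => exact ⟨1, fun h => q.2.ne_top ((Ideal.eq_top_iff_one _).2 h), by rw [smul_zero]; exact zero_mem _⟩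
  | add x y _ _ hx hy =>
    obtain ⟨r, hr, hrx⟩ := hx
    obtain ⟨s, hs, hsy⟩ := hy
    refine ⟨r * s, q.2.mul_notMem hr hs, ?_⟩
    rw [smul_add, mul_smul, mul_smul, smul_comm r s x]
    exact add_mem (Submodule.smul_mem _ s hrx) (Submodule.smul_mem _ r hsy)
  | smul a x _ hx =>
    obtain ⟨r, hr, hrx⟩ := hx
    obtain ⟨t, ht, b, hb⟩ := exists_frac (V := V) a
    refine ⟨r * t, q.2.mul_notMem hr ht, ?_⟩
    rw [mul_smul, hb, smul_comm r b x]
    exact Submodule.smul_mem _ b hrx

variable (hz : ∀ (i : Fin l) (a : R), a • z i ∈ _root_.CycDet.spanBefore R V z i ↔ a ∈ q.asIdeal)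
include hz

theorem inf_spanBefore {i j : ℕ} (hij : i ≤ j) (hj : j ≤ l) :
    _root_.CycDet.spanBefore R V z j ⊓ (_root_.CycDet.spanBefore Rq V z i).restrictScalars R =
      _root_.CycDet.spanBefore R V z i := by
  refine le_antisymm ?_ (le_inf (Submodule.span_mono (Set.image_mono fun k (hk : _ < i) => lt_of_lt_of_le hk hij))
    (spanBefore_le i))
  induction j, hij using Nat.le_induction with
  | base => exact inf_le_left
  | succ j hij ih =>
    refine fun v ⟨hv, hvi⟩ => ih (Nat.le_of_succ_le hj) ⟨?_, hvi⟩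
    have hsucc := GoodSeq.spanBefore_succ (R := R) z (⟨j, hj⟩ : Fin l)
    dsimp only at hsucc
    rw [SetLike.mem_coe, hsucc] at hv
    obtain ⟨w, hw, x, hx, rfl⟩ := Submodule.mem_sup.1 hv
    obtain ⟨a, rfl⟩ := Submodule.mem_span_singleton.1 hx
    obtain ⟨t, ht, htv⟩ := exists_smul_mem_spanBefore hvi
    have hle : _root_.CycDet.spanBefore R V z i ≤ _root_.CycDet.spanBefore R V z j :=
      Submodule.span_mono (Set.image_mono fun k (hk : _ < i) => lt_of_lt_of_le hk hij)
    have h2 := sub_mem (hle htv) (Submodule.smul_mem _ t hw)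
    rw [smul_add, add_sub_cancel_left, smul_smul] at h2
    exact add_mem hw ((hz ⟨j, hj⟩ a).2 ((q.2.mem_or_mem ((hz ⟨j, hj⟩ _).1 h2)).resolve_left ht))

theorem adm : AdmR (⊥ : Submodule Rq V) z := by
  intro i r hr
  rw [SB_bot]
  obtain ⟨⟨a, t⟩, hat⟩ := IsLocalization.surj q.asIdeal.primeCompl r
  dsimp only at hat
  have ha : a ∈ q.asIdeal := map_mem_maximal_iff.1 (hat ▸ Ideal.mul_mem_right _ _ hr)
  refine mem_of_smul_mem t.2 ?_
  rw [← algebraMap_smul Rq (t : R), smul_smul, mul_comm, hat, algebraMap_smul]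
  exact spanBefore_le _ ((hz i a).2 ha)

theorem good : Good (⊥ : Submodule Rq V) z := by
  intro i h
  rw [SB_bot] at h
  obtain ⟨t, ht, htv⟩ := exists_smul_mem_spanBefore h
  exact ht ((hz i t).1 htv)

theorem nil (htop : _root_.CycDet.spanBefore Rq V z l = ⊤) : Nil R q V := by
  intro r hr v
  have key : ∀ i, i ≤ l → ∀ v ∈ _root_.CycDet.spanBefore Rq V z i, r ^ i • v = 0 := by
    intro i
    induction i with
    | zero => intro _ v hv; rw [spanBefore_zero, Submodule.mem_bot] at hv; rw [hv, smul_zero]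
    | succ i ih =>
      intro hi v hv
      have h1 : r • v ∈ _root_.CycDet.spanBefore Rq V z i := by
        rw [show _root_.CycDet.spanBefore Rq V z (i + 1) = _ from GoodSeq.spanBefore_succ (R := Rq) z (⟨i, hi⟩ : Fin l)] at hv
        obtain ⟨w, hw, x, hx, rfl⟩ := Submodule.mem_sup.1 hv
        obtain ⟨a, rfl⟩ := Submodule.mem_span_singleton.1 hx
        have hsoc := adm hz ⟨i, hi⟩ _ (map_mem_maximal_iff.2 hr)
        rw [SB_bot, algebraMap_smul] at hsoc
        rw [smul_add, smul_comm r a]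
        exact add_mem (((_root_.CycDet.spanBefore Rq V z i).restrictScalars R).smul_mem r hw) (Submodule.smul_mem _ a hsoc)
      rw [pow_succ, mul_smul]
      exact ih (Nat.le_of_succ_le hi) _ h1
  exact ⟨l, key l le_rfl v (htop ▸ Submodule.mem_top)⟩

theorem len_bot (htop : _root_.CycDet.spanBefore Rq V z l = ⊤) : len (⊥ : Submodule Rq V) = l := by
  rw [len_eq_of_good z (adm hz) (good hz), SB_bot, htop, len_eq_zero_iff.2 rfl, zero_add]

variable {Λ : Submodule R V}

theorem omega_eq (hdim : ∀ Q : Ideal R, Q.IsPrime → q.asIdeal < Q → Q.IsMaximal)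
    (hΛ : IsLat (q := q) Λ) (htop : _root_.CycDet.spanBefore Rq V z l = ⊤) (hmem : ∀ i, z i ∈ Λ) :
    qlen Λ (_root_.CycDet.spanBefore R V z l) < ⊤ ∧
      omega Λ (⊥ : Submodule Rq V) z = idx Λ (_root_.CycDet.spanBefore R V z l) := by
  have hV := nil hz htop
  set F : ℕ → Submodule R V := fun i => (_root_.CycDet.spanBefore Rq V z i).restrictScalars R
  set E : ℕ → Submodule R V := fun i => _root_.CycDet.spanBefore R V z i
  have hEΛ : ∀ i, E i ≤ Λ := fun i => Submodule.span_le.2 (by rintro _ ⟨j, -, rfl⟩; exact hmem j)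
  have hEF : ∀ i, E i ≤ F i := fun i => spanBefore_le (z := z) i
  have hc : ∀ i, i ≤ l → Comm (Λ ⊓ F i) (E i) := by
    intro i hi
    refine comm_of_le (le_inf (hEΛ i) (spanBefore_le i)) ?_
    refine qlen_lt_top hdim hV (⊥ : Submodule Rq V) (Λ ⊓ F i) (Submodule.FG.of_le hΛ.1 inf_le_left)
      (by rw [Submodule.restrictScalars_bot, sup_bot_eq]) (by rw [Submodule.restrictScalars_bot]; exact bot_le) ?_
    exact fun v hv => exists_smul_mem_spanBefore hv.2
  have hFl : Λ ⊓ F l = Λ := by
    simp only [F, htop, Submodule.restrictScalars_top, inf_top_eq]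
  have hstep : ∀ i : Fin l, idx (Λ ⊓ F ((i : ℕ) + 1)) (E ((i : ℕ) + 1)) =
      idx (Λ ⊓ F i) (E i) + step Λ (SB (⊥ : Submodule Rq V) z i) (z i) := by
    intro i
    have hF : F ((i : ℕ) + 1) =
        ((_root_.CycDet.spanBefore Rq V z i) ⊔ Submodule.span Rq {z i}).restrictScalars R :=
      congrArg (Submodule.restrictScalars R) (GoodSeq.spanBefore_succ (R := Rq) z i)
    have hmono : F i ≤ F ((i : ℕ) + 1) := by rw [hF]; exact fun v hv => Submodule.mem_sup_left hv
    rw [idx_split (hc _ i.2) (F i), inf_assoc, inf_eq_right.2 hmono, step, lay, SB_bot]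
    rw [show E ((i : ℕ) + 1) ⊓ F i = E i from inf_spanBefore hz (Nat.le_succ _) i.2, ← hF]
    congr 2
    show E ((i : ℕ) + 1) ⊔ F i = Submodule.span R {z i} ⊔ F i
    rw [show E ((i : ℕ) + 1) = E i ⊔ Submodule.span R {z i} from GoodSeq.spanBefore_succ (R := R) z i,
      sup_comm (E i), sup_assoc, sup_eq_right.2 (hEF i)]
  refine ⟨?_, ?_⟩
  · have h := (hc l le_rfl).1
    rwa [hFl] at h
  · rw [omega]
    have e0 : idx (Λ ⊓ F 0) (E 0) = 0 := by
      simp only [F, E, spanBefore_zero, Submodule.restrictScalars_bot, inf_bot_eq, idx_self]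
    have : ∀ k (hk : k ≤ l), idx (Λ ⊓ F k) (E k) =
        ∑ i : Fin k, step Λ (SB (⊥ : Submodule Rq V) z i) (z (Fin.castLE hk i)) := by
      intro k
      induction k with
      | zero => intro _; simp [e0]
      | succ k ih =>
        intro hk
        rw [Fin.sum_univ_castSucc]
        exact (hstep ⟨k, hk⟩).trans (congrArg (· + _) (ih (Nat.le_of_succ_le hk)))
    conv_rhs => rw [← hFl]
    rw [show _root_.CycDet.spanBefore R V z l = E l from rfl, this l le_rfl]
    simp

end Groth.Agent.Lib.CycDet.Omega
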