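import Groth.Agent.Lib.CycDet.Exists

/-!
# The gluing coefficient and existence in every length
-/

set_option autoImplicit false
set_option linter.unusedSectionVars false

universe u v

namespace Groth.Agent.Lib.CycDet

open IsLocalRing

variable {R : Type u} [CommRing R] [IsLocalRing R] {M : Type v} [AddCommGroup M] [Module R M]
  {N : Submodule R M} {x₀ : M}

theorem exists_coeff_one (hN : len N = (1 : ℕ)) (hx₀ : Soc N x₀) (hx₀N : x₀ ∉ N) :
    ∃ c : M → ResidueField R, (∀ x, x ∈ N → c x = 0) ∧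
      (∀ x y (u : Rˣ), Soc N x → Soc N y → x - (u : R) • y ∈ N → c x = residue R (u : R) * c y) ∧
      (∀ x, Soc N x → x ∉ N → c x ≠ 0) := by
  have htop : N ⊔ Submodule.span R {x₀} = ⊤ :=
    len_eq_zero_iff.1 (by simpa using len_sup_eq (n := 0) hx₀ hx₀N hN)
  have hex : ∀ x : M, ∃ a : R, x - a • x₀ ∈ N := fun x => exists_sub_smul_mem (htop ▸ Submodule.mem_top)
  choose a ha using hex
  have uniq : ∀ (x : M) (b : R), x - b • x₀ ∈ N → residue R (a x) = residue R b := by
    intro x b hb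
    rw [← sub_eq_zero, ← map_sub]
    refine residue_eq_zero_of_smul_mem (x := x₀) ?_ hx₀N
    have := N.sub_mem hb (ha x)
    rwa [sub_sub_sub_cancel_left, ← sub_smul] at this
  refine ⟨fun x => residue R (a x), fun x hx => (uniq x 0 (by simpa using hx)).trans (map_zero _), ?_, ?_⟩
  · intro x y u hx hy h
    show residue R (a x) = residue R (u : R) * residue R (a y)
    rw [← map_mul]
    refine uniq x _ ?_
    have := N.add_mem h (N.smul_mem (u : R) (ha y))
    rwa [smul_sub, smul_smul, sub_add_sub_cancel] at this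
  · intro x hx hxN h
    refine hxN ?_
    rw [← sub_add_cancel x (a x • x₀)]
    exact N.add_mem (ha x) (hx₀ _ ((residue_eq_zero_iff _).1 h))

variable {n : ℕ} (Φ : Submodule R M → (Fin (n + 1) → M) → ResidueField R)

/-- The defining property of the coefficient. -/
def CoeffSpec (N : Submodule R M) (x₀ x : M) (c : ResidueField R) : Prop :=
  (∀ a : R, x - a • x₀ ∈ N → c = residue R a) ∧
    (Soc N x → x ∉ N ⊔ Submodule.span R {x₀} → ∀ t : Fin n → M,
      AdmR (N ⊔ Submodule.span R {x₀} ⊔ Submodule.span R {x}) t →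
      c * Φ (N ⊔ Submodule.span R {x}) (Fin.cons x₀ t) = -Φ (N ⊔ Submodule.span R {x₀}) (Fin.cons x t))

variable (hΦ : ∀ x, Soc N x → x ∉ N →
    IsDetFun (N ⊔ Submodule.span R {x}) (n + 1) (Φ (N ⊔ Submodule.span R {x})))
  (hN : len N = (n + 1 + 1 : ℕ)) (hx₀ : Soc N x₀) (hx₀N : x₀ ∉ N)

include hΦ hN hx₀ hx₀N

theorem exists_coeffSpec (x : M) : ∃ c, CoeffSpec Φ N x₀ x c := by
  by_cases h : ∃ a : R, x - a • x₀ ∈ N
  · obtain ⟨a, ha⟩ := h
    refine ⟨residue R a, fun b hb => ?_, fun _ hx => absurd (mem_sup_of_sub_smul_mem ha) hx⟩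
    rw [← sub_eq_zero, ← map_sub]
    refine residue_eq_zero_of_smul_mem (x := x₀) ?_ hx₀N
    have := N.sub_mem hb ha
    rwa [sub_sub_sub_cancel_left, ← sub_smul] at this
  by_cases hx : Soc N x
  swap
  · exact ⟨0, fun a ha => absurd ⟨a, ha⟩ h, fun hs => absurd hs hx⟩
  have hxN₀ : x ∉ N ⊔ Submodule.span R {x₀} := fun h' => h (exists_sub_smul_mem h')
  have hxN : x ∉ N := fun h' => hxN₀ (Submodule.mem_sup_left h')
  have hx₀x : x₀ ∉ N ⊔ Submodule.span R {x} := fun h' => hxN₀ (mem_sup_comm hx hx₀N h')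
  have hl₀ : len (N ⊔ Submodule.span R {x₀}) = (n + 1 : ℕ) := len_sup_eq hx₀ hx₀N hN
  obtain ⟨t₀, ht₀, hg₀⟩ := exists_good (len_sup_eq (hx.mono le_sup_left) hxN₀ hl₀)
  have hP : N ⊔ Submodule.span R {x₀} ⊔ Submodule.span R {x} =
      N ⊔ Submodule.span R {x} ⊔ Submodule.span R {x₀} := sup_right_comm _ _ _
  have hA : Φ (N ⊔ Submodule.span R {x}) (Fin.cons x₀ t₀) ≠ 0 :=
    (hΦ x hx hxN).2 _ ((admR_cons_iff _ _).2 ⟨hx₀.mono le_sup_left, hP ▸ ht₀⟩)
      ((good_cons_iff _ _).2 ⟨hx₀x, hP ▸ hg₀⟩)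
  refine ⟨-Φ (N ⊔ Submodule.span R {x₀}) (Fin.cons x t₀) / Φ (N ⊔ Submodule.span R {x}) (Fin.cons x₀ t₀),
    fun a ha => absurd ⟨a, ha⟩ h, fun _ _ t ht => ?_⟩
  have h1 : RelFun (N ⊔ Submodule.span R {x₀} ⊔ Submodule.span R {x}) n
      (fun t => Φ (N ⊔ Submodule.span R {x₀}) (Fin.cons x t)) := (hΦ x₀ hx₀ hx₀N).1.cons (hx.mono le_sup_left)
  have h2 : RelFun (N ⊔ Submodule.span R {x₀} ⊔ Submodule.span R {x}) n
      (fun t => Φ (N ⊔ Submodule.span R {x}) (Fin.cons x₀ t)) := by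
    rw [hP]; exact (hΦ x hx hxN).1.cons (hx₀.mono le_sup_left)
  have := proportional h1 h2 (len_sup_eq (hx.mono le_sup_left) hxN₀ hl₀) ht₀ hg₀ ht
  field_simp
  linear_combination this

theorem exists_coeff : ∃ c : M → ResidueField R, (∀ x, x ∈ N → c x = 0) ∧
    (∀ x y (u : Rˣ), Soc N x → Soc N y → x - (u : R) • y ∈ N → c x = residue R (u : R) * c y) ∧
    (∀ x, Soc N x → x ∉ N → c x ≠ 0) ∧
    (∀ x y, Soc N x → Soc N y → x ∉ N → y ∉ N ⊔ Submodule.span R {x} → ∀ t : Fin n → M,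
      AdmR (N ⊔ Submodule.span R {x} ⊔ Submodule.span R {y}) t →
      c x * Φ (N ⊔ Submodule.span R {x}) (Fin.cons y t) +
        c y * Φ (N ⊔ Submodule.span R {y}) (Fin.cons x t) = 0) := by
  choose c hc using exists_coeffSpec Φ hΦ hN hx₀ hx₀N
  have hz : ∀ x, x ∈ N → c x = 0 := fun x hx => ((hc x).1 0 (by simpa using hx)).trans (map_zero _)
  have hl₀ : len (N ⊔ Submodule.span R {x₀}) = (n + 1 : ℕ) := len_sup_eq hx₀ hx₀N hN
  have good₂ : ∀ {x : M}, Soc N x → x ∉ N ⊔ Submodule.span R {x₀} →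
      ∃ t : Fin n → M, AdmR (N ⊔ Submodule.span R {x₀} ⊔ Submodule.span R {x}) t ∧
        Good (N ⊔ Submodule.span R {x₀} ⊔ Submodule.span R {x}) t := fun {x} hx hx' =>
    exists_good (len_sup_eq (hx.mono le_sup_left) hx' hl₀)
  have value : ∀ {x : M}, Soc N x → x ∉ N ⊔ Submodule.span R {x₀} → ∀ t,
      AdmR (N ⊔ Submodule.span R {x₀} ⊔ Submodule.span R {x}) t →
      Good (N ⊔ Submodule.span R {x₀} ⊔ Submodule.span R {x}) t →
      Φ (N ⊔ Submodule.span R {x}) (Fin.cons x₀ t) ≠ 0 ∧ Φ (N ⊔ Submodule.span R {x₀}) (Fin.cons x t) ≠ 0 := by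
    intro x hx hx' t ht hg
    have hxN : x ∉ N := fun h => hx' (Submodule.mem_sup_left h)
    refine ⟨(hΦ x hx hxN).2 _ ((admR_cons_iff _ _).2 ⟨hx₀.mono le_sup_left, by rwa [sup_right_comm]⟩)
      ((good_cons_iff _ _).2 ⟨fun h => hx' (mem_sup_comm hx hx₀N h), by rwa [sup_right_comm]⟩), ?_⟩
    exact (hΦ x₀ hx₀ hx₀N).2 _ ((admR_cons_iff _ _).2 ⟨hx.mono le_sup_left, ht⟩)
      ((good_cons_iff _ _).2 ⟨hx', hg⟩)
  refine ⟨c, hz, ?_, ?_, ?_⟩
  · intro x y u hx hy h
    by_cases hy' : y ∈ N ⊔ Submodule.span R {x₀}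
    · obtain ⟨b, hb⟩ := exists_sub_smul_mem hy'
      have hxb : x - ((u : R) * b) • x₀ ∈ N := by
        have := N.add_mem h (N.smul_mem (u : R) hb)
        rwa [smul_sub, smul_smul, sub_add_sub_cancel] at this
      rw [(hc x).1 _ hxb, (hc y).1 _ hb, map_mul]
    · have hsp := sup_span_eq_of_sub_mem u h
      have hx' : x ∉ N ⊔ Submodule.span R {x₀} := fun h' => hy' (by
        have hy'' : y ∈ N ⊔ Submodule.span R {x} := hsp ▸ Submodule.mem_sup_right (Submodule.mem_span_singleton_self y)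
        exact sup_le le_sup_left ((Submodule.span_singleton_le_iff_mem _ _).2 h') hy'')
      have hP : N ⊔ Submodule.span R {x₀} ⊔ Submodule.span R {x} =
          N ⊔ Submodule.span R {x₀} ⊔ Submodule.span R {y} :=
        sup_span_eq_of_sub_mem u (Submodule.mem_sup_left h)
      obtain ⟨t, ht, hg⟩ := good₂ hx hx'
      obtain ⟨hA, -⟩ := value hx hx' t ht hg
      have e1 := (hc x).2 hx hx' t ht
      have e2 := (hc y).2 hy hy' t (hP ▸ ht)
      rw [← hsp] at e2
      rw [(hΦ x₀ hx₀ hx₀N).1.head_smul t u (hx.mono le_sup_left) (hy.mono le_sup_left)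
        (Submodule.mem_sup_left h) ht, smul_eq_mul] at e1
      apply mul_right_cancel₀ hA
      linear_combination e1 - residue R (u : R) * e2
  · intro x hx hxN
    by_cases hx' : x ∈ N ⊔ Submodule.span R {x₀}
    · obtain ⟨a, ha⟩ := exists_sub_smul_mem hx'
      rw [(hc x).1 a ha]
      intro h
      refine hxN ?_
      rw [← sub_add_cancel x (a • x₀)]
      exact N.add_mem ha (hx₀ _ ((residue_eq_zero_iff _).1 h))
    · obtain ⟨t, ht, hg⟩ := good₂ hx hx'
      obtain ⟨-, hB⟩ := value hx hx' t ht hg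
      intro h
      have := (hc x).2 hx hx' t ht
      rw [h, zero_mul, eq_comm, neg_eq_zero] at this
      exact hB this
  · -- the case of a line through the base point
    have key : ∀ x y, Soc N x → Soc N y → x ∉ N → y ∉ N ⊔ Submodule.span R {x} →
        x ∈ N ⊔ Submodule.span R {x₀} → ∀ t : Fin n → M,
        AdmR (N ⊔ Submodule.span R {x} ⊔ Submodule.span R {y}) t →
        c x * Φ (N ⊔ Submodule.span R {x}) (Fin.cons y t) +
          c y * Φ (N ⊔ Submodule.span R {y}) (Fin.cons x t) = 0 := by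
      intro x y hx hy hxN hyx hx' t ht
      obtain ⟨u, hu⟩ := exists_unit_sub_smul_mem hx₀ hxN hx'
      have hsp := sup_span_eq_of_sub_mem u hu
      have hy' : y ∉ N ⊔ Submodule.span R {x₀} := hsp ▸ hyx
      have hyN : y ∉ N := fun h => hy' (Submodule.mem_sup_left h)
      have e := (hc y).2 hy hy' t (hsp ▸ ht)
      have e1 : Φ (N ⊔ Submodule.span R {y}) (Fin.cons x t) =
          residue R (u : R) * Φ (N ⊔ Submodule.span R {y}) (Fin.cons x₀ t) :=
        (hΦ y hy hyN).1.head_smul t u (hx.mono le_sup_left) (hx₀.mono le_sup_left) (Submodule.mem_sup_left hu)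
          (by rwa [sup_right_comm])
      rw [(hc x).1 _ hu, hsp, e1]
      linear_combination residue R (u : R) * e
    intro x y hx hy hxN hyx t ht
    have hyN : y ∉ N := fun h => hyx (Submodule.mem_sup_left h)
    have hxy : x ∉ N ⊔ Submodule.span R {y} := fun h => hyx (mem_sup_comm hy hxN h)
    by_cases hx' : x ∈ N ⊔ Submodule.span R {x₀}
    · exact key x y hx hy hxN hyx hx' t ht
    by_cases hy' : y ∈ N ⊔ Submodule.span R {x₀}
    · rw [add_comm]
      exact key y x hy hx hyN hxy hy' t (by rwa [sup_right_comm])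
    have hlx : len (N ⊔ Submodule.span R {x}) = (n + 1 : ℕ) := len_sup_eq hx hxN hN
    have hlP : len (N ⊔ Submodule.span R {x} ⊔ Submodule.span R {y}) = n :=
      len_sup_eq (hy.mono le_sup_left) hyx hlx
    by_cases h₀ : x₀ ∈ N ⊔ Submodule.span R {x} ⊔ Submodule.span R {y}
    · have hx₀x : x₀ ∉ N ⊔ Submodule.span R {x} := fun h => hx' (mem_sup_comm hx hx₀N h)
      obtain ⟨b, hb⟩ := exists_unit_sub_smul_mem (hy.mono le_sup_left) hx₀x h₀
      obtain ⟨a', ha'⟩ := exists_sub_smul_mem hb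
      have hau : IsUnit a' := by
        refine hx.unit_of_smul_notMem fun h => hy' ?_
        refine mem_sup_comm hy hx₀N (mem_sup_of_sub_smul_mem (a := (b : R)) ?_)
        simpa using N.add_mem ha' h
      obtain ⟨a, rfl⟩ := hau
      -- `x₀ ≡ a x + b y` modulo `N`
      have hya : x₀ - (a : R) • x ∈ N ⊔ Submodule.span R {y} := by
        refine mem_sup_of_sub_smul_mem (a := (b : R)) ?_
        rwa [sub_right_comm]
      have E1 : Φ (N ⊔ Submodule.span R {y}) (Fin.cons x₀ t) =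
          residue R (a : R) * Φ (N ⊔ Submodule.span R {y}) (Fin.cons x t) :=
        (hΦ y hy hyN).1.head_smul t a (hx₀.mono le_sup_left) (hx.mono le_sup_left) hya (by
          rw [sup_span_eq_of_sub_mem a hya, sup_right_comm]; exact ht)
      have hadm₁ : AdmR (N ⊔ Submodule.span R {x} ⊔ Submodule.span R {x₀}) t := by
        rw [sup_span_eq_of_sub_mem b hb]; exact ht
      have E2 : Φ (N ⊔ Submodule.span R {x}) (Fin.cons x₀ t) =
          residue R (b : R) * Φ (N ⊔ Submodule.span R {x}) (Fin.cons y t) :=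
        (hΦ x hx hxN).1.head_smul t b (hx₀.mono le_sup_left) (hy.mono le_sup_left) hb hadm₁
      have hu : x - ((-(a⁻¹ * b) : Rˣ) : R) • y ∈ N ⊔ Submodule.span R {x₀} := by
        refine mem_sup_of_sub_smul_mem (a := ((a⁻¹ : Rˣ) : R)) ?_
        have h := N.smul_mem (-((a⁻¹ : Rˣ) : R)) ha'
        convert h using 1
        simp only [smul_sub, smul_smul, Units.val_neg, Units.val_mul, neg_mul, Units.inv_mul, neg_smul, one_smul,
          sub_neg_eq_add]
        abel
      have hadm₀ : AdmR (N ⊔ Submodule.span R {x₀} ⊔ Submodule.span R {x}) t := by rwa [sup_right_comm] at hadm₁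
      have E3 : Φ (N ⊔ Submodule.span R {x₀}) (Fin.cons x t) =
          residue R ((-(a⁻¹ * b) : Rˣ) : R) * Φ (N ⊔ Submodule.span R {x₀}) (Fin.cons y t) :=
        (hΦ x₀ hx₀ hx₀N).1.head_smul t _ (hx.mono le_sup_left) (hy.mono le_sup_left) hu hadm₀
      have e1 := (hc x).2 hx hx' t hadm₀
      have e2 := (hc y).2 hy hy' t (sup_span_eq_of_sub_mem _ hu ▸ hadm₀)
      rw [E2, E3] at e1
      rw [E1] at e2
      have hab : residue R (a : R) * residue R ((-(a⁻¹ * b) : Rˣ) : R) = -residue R (b : R) := by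
        rw [← map_mul, ← map_neg]; simp
      have hne : residue R (a : R) * residue R (b : R) ≠ 0 :=
        mul_ne_zero (residue_ne_zero_iff_isUnit _ |>.2 a.isUnit) (residue_ne_zero_iff_isUnit _ |>.2 b.isUnit)
      refine (mul_eq_zero.1 ?_).resolve_left hne
      linear_combination residue R (a : R) * e1 + residue R (b : R) * e2 -
        Φ (N ⊔ Submodule.span R {x₀}) (Fin.cons y t) * hab
    · cases n with
      | zero => exact absurd ((len_eq_zero_iff.1 (by simpa using hlP)).symm ▸ Submodule.mem_top) h₀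
      | succ m =>
        obtain ⟨t', ht', hg'⟩ := exists_good (len_sup_eq ((hx₀.mono le_sup_left).mono le_sup_left) h₀ hlP)
        have h1 : RelFun (N ⊔ Submodule.span R {x} ⊔ Submodule.span R {y}) (m + 1)
            (fun t => Φ (N ⊔ Submodule.span R {x}) (Fin.cons y t)) := (hΦ x hx hxN).1.cons (hy.mono le_sup_left)
        have h2 : RelFun (N ⊔ Submodule.span R {x} ⊔ Submodule.span R {y}) (m + 1)
            (fun t => Φ (N ⊔ Submodule.span R {y}) (Fin.cons x t)) := by
          rw [sup_right_comm]; exact (hΦ y hy hyN).1.cons (hx.mono le_sup_left)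
        refine eq_zero_of_good (h1.linComb h2 (c x) (c y)) hlP
          ((admR_cons_iff x₀ t').2 ⟨(hx₀.mono le_sup_left).mono le_sup_left, ht'⟩)
          ((good_cons_iff x₀ t').2 ⟨h₀, hg'⟩) ?_ ht
        show c x * Φ (N ⊔ Submodule.span R {x}) (Fin.cons y (Fin.cons x₀ t')) +
          c y * Φ (N ⊔ Submodule.span R {y}) (Fin.cons x (Fin.cons x₀ t')) = 0
        have hT₀ : AdmR (N ⊔ Submodule.span R {x₀} ⊔ Submodule.span R {x} ⊔ Submodule.span R {y}) t' := by
          convert ht' using 1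
          ac_rfl
        have s1 := (hΦ x hx hxN).1.swap_head (x := y) (y := x₀) t' (hy.mono le_sup_left) (hx₀.mono le_sup_left) ht'
        have s2 := (hΦ y hy hyN).1.swap_head (x := x) (y := x₀) t' (hx.mono le_sup_left) (hx₀.mono le_sup_left)
          (by convert ht' using 1; ac_rfl)
        have s3 := (hΦ x₀ hx₀ hx₀N).1.swap_head (x := x) (y := y) t' (hx.mono le_sup_left) (hy.mono le_sup_left) hT₀
        have e1 := (hc x).2 hx hx' (Fin.cons y t') ((admR_cons_iff _ _).2
          ⟨(hy.mono le_sup_left).mono le_sup_left, hT₀⟩)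
        have e2 := (hc y).2 hy hy' (Fin.cons x t') ((admR_cons_iff _ _).2
          ⟨(hx.mono le_sup_left).mono le_sup_left, by rwa [sup_right_comm]⟩)
        linear_combination c x * s1 + c y * s2 + s3 - e1 - e2

omit hΦ hN hx₀ hx₀N

/-- **Existence**. -/
theorem exists_detFun : ∀ {n : ℕ} {N : Submodule R M}, len N = n → ∃ φ, IsDetFun N n φ := by
  intro n
  induction n with
  | zero =>
    intro N _
    exact ⟨fun _ => 1, ⟨fun _ _ a => a.elim0, fun _ _ _ _ a => a.elim0, fun _ _ _ _ a => a.elim0⟩,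
      fun _ _ _ => one_ne_zero⟩
  | succ n ih =>
    intro N hN
    classical
    let Φ : Submodule R M → (Fin n → M) → ResidueField R :=
      fun N' => if h : len N' = n then (ih h).choose else 0
    have hΦ : ∀ x, Soc N x → x ∉ N →
        IsDetFun (N ⊔ Submodule.span R {x}) n (Φ (N ⊔ Submodule.span R {x})) := by
      intro x hx hxN
      simp only [Φ, dif_pos (len_sup_eq hx hxN hN)]
      exact (ih (len_sup_eq hx hxN hN)).choose_spec
    obtain ⟨x₀, hx₀, hx₀N⟩ := exists_soc_notMem hN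
    cases n with
    | zero =>
      obtain ⟨c, hz, hlin, hne⟩ := exists_coeff_one hN hx₀ hx₀N
      exact exists_of_coeff Φ hΦ c hz hlin hne fun e a _ _ ha => absurd ha (by omega)
    | succ m =>
      obtain ⟨c, hz, hlin, hne, hp⟩ := exists_coeff Φ hΦ hN hx₀ hx₀N
      refine exists_of_coeff Φ hΦ c hz hlin hne fun e a he he' ha hs hx hy => ?_
      obtain ⟨x, t', rfl⟩ : ∃ x t', e = Fin.cons x t' := ⟨e 0, Fin.tail e, (Fin.cons_self_tail e).symm⟩
      obtain ⟨y, t, rfl⟩ : ∃ y t, t' = Fin.cons y t := ⟨t' 0, Fin.tail t', (Fin.cons_self_tail t').symm⟩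
      obtain rfl : a = Fin.succ 0 := Fin.ext (by simpa using ha)
      rw [cons_comp_swap_one_zero] at he' ⊢
      simp only [Fin.cons_zero, Fin.cons_succ, Fin.tail_cons] at hs hx hy ⊢
      obtain ⟨hxs, ht⟩ := (admR_cons_iff _ _).1 he
      exact hp x y hxs hs hx hy t ((admR_cons_iff _ _).1 ht).2

end Groth.Agent.Lib.CycDet
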