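import Groth.Agent.Lib.CycDet.Coeff
import Mathlib.LinearAlgebra.Dimension.Constructions
import Mathlib.LinearAlgebra.Dimension.Finite
import Mathlib.LinearAlgebra.Dimension.FreeAndStrongRankCondition
import Mathlib.RingTheory.LocalRing.ResidueField.Basic

/-!
# The determinant of a module of finite length is a line
-/

set_option autoImplicit false
set_option linter.unusedSectionVars false

universe u v w

namespace Groth.Agent.Lib.CycDet.Det

open IsLocalRing
open Groth.Agent.Lib.CycDet

variable {R : Type u} [CommRing R] [IsLocalRing R] {M : Type v} [AddCommGroup M] [Module R M]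
  {V : Type w} [AddCommGroup V] [Module (ResidueField R) V] {n : ℕ}

/-- The class of an admissible tuple. -/
noncomputable abbrev cls (e : _root_.CycDet.Adm R M n) : _root_.CycDet.DetOfLen R M n :=
  Submodule.Quotient.mk (_root_.CycDet.sym R M e)

open Classical in
/-- The symbol as a function on all tuples. -/
noncomputable def symF (e : Fin n → M) : _root_.CycDet.DetOfLen R M n :=
  if h : _root_.CycDet.IsAdmissible R M e then cls ⟨e, h⟩ else 0

theorem symF_val (e : _root_.CycDet.Adm R M n) : symF (R := R) e.1 = cls e := by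
  rw [symF, dif_pos e.2]
  rfl

theorem symF_adm {e : Fin n → M} (h : AdmR (⊥ : Submodule R M) e) :
    symF (R := R) e = cls ⟨e, (admR_bot_iff e).1 h⟩ := symF_val ⟨e, (admR_bot_iff e).1 h⟩

theorem relFun_symF : RelFun (⊥ : Submodule R M) n (symF (R := R) (M := M)) where
  zero e he a ha := by
    rw [symF_adm he, Submodule.Quotient.mk_eq_zero]
    exact Submodule.subset_span (Or.inl (Or.inl ⟨⟨e, (admR_bot_iff e).1 he⟩, a, by rwa [← SB_bot], rfl⟩))
  smul e e' he he' a c hj hc := by
    rw [symF_adm he, symF_adm he']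
    refine (Submodule.Quotient.eq _).2 ?_
    exact Submodule.subset_span (Or.inl (Or.inr ⟨⟨e, (admR_bot_iff e).1 he⟩, ⟨e', (admR_bot_iff e').1 he'⟩, a, c,
      hj, by rwa [← SB_bot], rfl⟩))
  swap e e' he he' a b hab hs hee := by
    rw [symF_adm he, symF_adm he']
    refine (Submodule.Quotient.mk_eq_zero (x := _root_.CycDet.sym R M _ + _root_.CycDet.sym R M _) _).2 ?_
    exact Submodule.subset_span (Or.inr ⟨⟨e, (admR_bot_iff e).1 he⟩, ⟨e', (admR_bot_iff e').1 he'⟩, a, b, hab,
      by rwa [← SB_bot], hee, rfl⟩)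

/-- The linear map on symbols of a relation function. -/
noncomputable def lift {φ : (Fin n → M) → V} (hφ : RelFun (⊥ : Submodule R M) n φ) :
    _root_.CycDet.DetOfLen R M n →ₗ[ResidueField R] V :=
  Submodule.liftQ _ (Finsupp.linearCombination (ResidueField R) fun e : _root_.CycDet.Adm R M n => φ e.1) (by
    rw [Submodule.span_le]
    rintro x ((⟨e, a, ha, rfl⟩ | ⟨e, e', a, c, hj, hc, rfl⟩) | ⟨e, e', a, b, hab, hs, hee, rfl⟩)
    · simp only [SetLike.mem_coe, LinearMap.mem_ker, _root_.CycDet.sym, Finsupp.linearCombination_single, one_smul]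
      exact hφ.zero _ ((admR_bot_iff _).2 e.2) a (by rwa [SB_bot])
    · simp only [SetLike.mem_coe, LinearMap.mem_ker, _root_.CycDet.sym, map_sub, map_smul,
        Finsupp.linearCombination_single, one_smul]
      rw [hφ.smul _ _ ((admR_bot_iff _).2 e.2) ((admR_bot_iff _).2 e'.2) a c hj (by rwa [SB_bot]), sub_self]
    · simp only [SetLike.mem_coe, LinearMap.mem_ker, _root_.CycDet.sym, map_add,
        Finsupp.linearCombination_single, one_smul]
      exact hφ.swap _ _ ((admR_bot_iff _).2 e.2) ((admR_bot_iff _).2 e'.2) a b hab (by rwa [SB_bot]) hee)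

theorem lift_cls {φ : (Fin n → M) → V} (hφ : RelFun (⊥ : Submodule R M) n φ) (e : _root_.CycDet.Adm R M n) :
    lift hφ (cls e) = φ e.1 := by
  simp [lift, cls, _root_.CycDet.sym]

theorem cls_mem_span (hn : len (⊥ : Submodule R M) = n) (e₀ e : _root_.CycDet.Adm R M n)
    (hg : Good (⊥ : Submodule R M) e₀.1) : ∃ r : ResidueField R, cls e = r • cls e₀ := by
  obtain ⟨r, hr⟩ := mem_span_of_good _ relFun_symF hn e₀.1 e.1 ((admR_bot_iff _).2 e₀.2) hg ((admR_bot_iff _).2 e.2)
  exact ⟨r, by rwa [symF_val, symF_val] at hr⟩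

theorem exists_smul_cls (hn : len (⊥ : Submodule R M) = n) (e₀ : _root_.CycDet.Adm R M n)
    (hg : Good (⊥ : Submodule R M) e₀.1) (z : _root_.CycDet.DetOfLen R M n) :
    ∃ r : ResidueField R, z = r • cls e₀ := by
  obtain ⟨z, rfl⟩ := Submodule.Quotient.mk_surjective _ z
  induction z using Finsupp.induction_linear with
  | zero => exact ⟨0, by simp⟩
  | add f g hf hg' =>
    obtain ⟨a, ha⟩ := hf
    obtain ⟨b, hb⟩ := hg'
    exact ⟨a + b, by rw [Submodule.Quotient.mk_add, ha, hb, add_smul]⟩
  | single e c =>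
    obtain ⟨r, hr⟩ := cls_mem_span hn e₀ e hg
    refine ⟨c * r, ?_⟩
    rw [show Finsupp.single e c = c • _root_.CycDet.sym R M e by simp [_root_.CycDet.sym], Submodule.Quotient.mk_smul]
    show c • cls e = _
    rw [hr, smul_smul]

theorem cls_ne_zero (hn : len (⊥ : Submodule R M) = n) (e : _root_.CycDet.Adm R M n)
    (hg : Good (⊥ : Submodule R M) e.1) : cls e ≠ 0 := by
  obtain ⟨φ, hφ, hne⟩ := exists_detFun hn
  intro h
  refine hne e.1 ((admR_bot_iff _).2 e.2) hg ?_
  rw [← lift_cls hφ e, h, map_zero]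

theorem good_of_cls_ne_zero (e : _root_.CycDet.Adm R M n) (h : cls e ≠ 0) : Good (⊥ : Submodule R M) e.1 := by
  intro a ha
  exact h (by rw [← symF_val]; exact relFun_symF.zero e.1 ((admR_bot_iff _).2 e.2) a ha)

theorem exists_good_adm (hn : len (⊥ : Submodule R M) = n) :
    ∃ e : _root_.CycDet.Adm R M n, Good (⊥ : Submodule R M) e.1 := by
  obtain ⟨e, he, hg⟩ := exists_good hn
  exact ⟨⟨e, (admR_bot_iff e).1 he⟩, hg⟩

theorem len_bot_eq (hM : IsFiniteLength R M) :
    len (⊥ : Submodule R M) = ((Module.length R M).toNat : ℕ) := by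
  rw [len, (Submodule.quotEquivOfEqBot (⊥ : Submodule R M) rfl).length_eq,
    ENat.natCast_toNat (Module.length_ne_top_iff.2 hM)]

theorem spanBefore_last (e : Fin n → M) : _root_.CycDet.spanBefore R M e n = Submodule.span R (Set.range e) := by
  rw [_root_.CycDet.spanBefore, ← Set.image_univ]
  congr 2
  ext j
  simp

theorem good_iff_span_eq_top (hn : len (⊥ : Submodule R M) = n) (e : _root_.CycDet.Adm R M n) :
    Good (⊥ : Submodule R M) e.1 ↔ Submodule.span R (Set.range e.1) = ⊤ := by
  rw [← spanBefore_last, ← SB_bot]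
  exact ⟨fun h => SB_top_of_good _ hn ((admR_bot_iff _).2 e.2) h,
    fun h => good_of_SB_top _ ((admR_bot_iff _).2 e.2) hn h⟩

theorem rank_le_one (hn : len (⊥ : Submodule R M) = n) :
    Module.rank (ResidueField R) (_root_.CycDet.DetOfLen R M n) ≤ 1 := by
  obtain ⟨e₀, hg⟩ := exists_good_adm hn
  exact rank_le_one_iff.2 ⟨cls e₀, fun z => (exists_smul_cls hn e₀ hg z).imp fun r hr => hr.symm⟩

end Groth.Agent.Lib.CycDet.Det
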