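import Groth.Agent.Lib.CycDet.RelFun

/-!
# Existence of a function satisfying the admissible relations and nonzero on good tuples
-/

set_option autoImplicit false
set_option linter.unusedSectionVars false

universe u v

namespace Groth.Agent.Lib.CycDet

open IsLocalRing

variable {R : Type u} [CommRing R] [IsLocalRing R] {M : Type v} [AddCommGroup M] [Module R M]

/-- A relation function that is nonzero on good tuples. -/
def IsDetFun (N : Submodule R M) (n : ℕ) (φ : (Fin n → M) → ResidueField R) : Prop :=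
  RelFun N n φ ∧ ∀ e, AdmR N e → Good N e → φ e ≠ 0

/-- Gluing functions on the quotients by socle lines along a coefficient. -/
theorem exists_of_coeff {n : ℕ} {N : Submodule R M}
    (Φ : Submodule R M → (Fin n → M) → ResidueField R)
    (hΦ : ∀ x, Soc N x → x ∉ N → IsDetFun (N ⊔ Submodule.span R {x}) n (Φ (N ⊔ Submodule.span R {x})))
    (c : M → ResidueField R)
    (hz : ∀ x, x ∈ N → c x = 0)
    (hlin : ∀ x y (u : Rˣ), Soc N x → Soc N y → x - (u : R) • y ∈ N → c x = residue R (u : R) * c y)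
    (hne : ∀ x, Soc N x → x ∉ N → c x ≠ 0)
    (hpair : ∀ (e : Fin (n + 1) → M) (a : Fin (n + 1)), AdmR N e → AdmR N (e ∘ Equiv.swap a 0) → (a : ℕ) = 1 →
      Soc N (e a) → e 0 ∉ N → e a ∉ N ⊔ Submodule.span R {e 0} →
      c (e 0) * Φ (N ⊔ Submodule.span R {e 0}) (Fin.tail e) +
        c ((e ∘ Equiv.swap a 0) 0) * Φ (N ⊔ Submodule.span R {(e ∘ Equiv.swap a 0) 0})
          (Fin.tail (e ∘ Equiv.swap a 0)) = 0) :
    ∃ φ, IsDetFun N (n + 1) φ := by
  let φ : (Fin (n + 1) → M) → ResidueField R := fun e =>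
    c (e 0) * Φ (N ⊔ Submodule.span R {e 0}) (Fin.tail e)
  have φ_cons : ∀ x t, φ (Fin.cons x t) = c x * Φ (N ⊔ Submodule.span R {x}) t := fun x t => by
    simp only [φ, Fin.cons_zero, Fin.tail_cons]
  have zero : ∀ e, AdmR N e → ∀ a : Fin (n + 1), e a ∈ SB N e a → φ e = 0 := by
    intro e he a ha
    obtain ⟨x, t, rfl⟩ : ∃ x t, e = Fin.cons x t := ⟨e 0, Fin.tail e, (Fin.cons_self_tail e).symm⟩
    obtain ⟨hx, ht⟩ := (admR_cons_iff x t).1 he
    rw [φ_cons]
    by_cases hxN : x ∈ N
    · rw [hz x hxN, zero_mul]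
    induction a using Fin.cases with
    | zero =>
      rw [SB_cons_val_zero, Fin.cons_zero] at ha
      exact absurd ha hxN
    | succ a =>
      rw [SB_cons_val_succ, Fin.cons_succ] at ha
      rw [(hΦ x hx hxN).1.zero t ht a ha, mul_zero]
  refine ⟨φ, ⟨zero, ?_, ?_⟩, ?_⟩
  · intro e e' he he' a u hj hc
    obtain ⟨x, t, rfl⟩ : ∃ x t, e = Fin.cons x t := ⟨e 0, Fin.tail e, (Fin.cons_self_tail e).symm⟩
    obtain ⟨y, s, rfl⟩ : ∃ y s, e' = Fin.cons y s := ⟨e' 0, Fin.tail e', (Fin.cons_self_tail e').symm⟩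
    obtain ⟨hx, ht⟩ := (admR_cons_iff x t).1 he
    obtain ⟨hy, hs⟩ := (admR_cons_iff y s).1 he'
    rw [φ_cons, φ_cons, smul_eq_mul]
    induction a using Fin.cases with
    | zero =>
      rw [SB_cons_val_zero, Fin.cons_zero, Fin.cons_zero] at hc
      have hts : t = s := funext fun j => by simpa using hj j.succ (Fin.succ_ne_zero j)
      rw [hlin x y u hx hy hc, sup_span_eq_of_sub_mem u hc, hts, mul_assoc]
    | succ a =>
      rw [SB_cons_val_succ, Fin.cons_succ, Fin.cons_succ] at hc
      have hxy : x = y := by simpa using hj 0 (Fin.succ_ne_zero a).symm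
      subst hxy
      by_cases hxN : x ∈ N
      · rw [hz x hxN, zero_mul, zero_mul, mul_zero]
      · rw [(hΦ x hx hxN).1.smul t s ht hs a u
          (fun j hj' => by simpa using hj j.succ fun h => hj' (Fin.succ_injective _ h)) hc, smul_eq_mul]
        ring
  · intro e e' he he' a b hab hs hee
    induction b using Fin.cases with
    | zero =>
      have ha : (a : ℕ) = 1 := by simpa using hab.symm
      rw [show ((0 : Fin (n + 1)) : ℕ) = 0 from rfl, SB_zero] at hs
      subst hee
      have h0 : (e ∘ Equiv.swap a 0) 0 = e a := by simp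
      have ha' : (e ∘ Equiv.swap a 0) a = e 0 := by simp
      have hSB : SB N e a = N ⊔ Submodule.span R {e 0} := by rw [ha, SB_one]
      have hSB' : SB N (e ∘ Equiv.swap a 0) a = N ⊔ Submodule.span R {e a} := by rw [ha, SB_one, h0]
      by_cases hx : e 0 ∈ N
      · rw [zero e he 0 (by rw [show ((0 : Fin (n + 1)) : ℕ) = 0 from rfl, SB_zero]; exact hx),
          zero _ he' a (by rw [hSB', ha']; exact Submodule.mem_sup_left hx), add_zero]
      by_cases hy : e a ∈ N ⊔ Submodule.span R {e 0}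
      · rw [zero e he a (by rw [hSB]; exact hy)]
        by_cases hyN : e a ∈ N
        · rw [zero _ he' 0 (by rw [show ((0 : Fin (n + 1)) : ℕ) = 0 from rfl, SB_zero, h0]; exact hyN), add_zero]
        · have hx0 : Soc N (e 0) := by
            have := he 0
            rwa [show ((0 : Fin (n + 1)) : ℕ) = 0 from rfl, SB_zero] at this
          rw [zero _ he' a (by rw [hSB', ha']; exact mem_sup_comm hx0 hyN hy), add_zero]
      exact hpair e a he he' ha hs hx hy
    | succ b =>
      induction a using Fin.cases with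
      | zero => simp at hab
      | succ a =>
        obtain ⟨x, t, rfl⟩ : ∃ x t, e = Fin.cons x t := ⟨e 0, Fin.tail e, (Fin.cons_self_tail e).symm⟩
        rw [cons_comp_swap_succ] at hee
        subst hee
        obtain ⟨hx, ht⟩ := (admR_cons_iff x t).1 he
        obtain ⟨-, ht'⟩ := (admR_cons_iff x _).1 he'
        rw [φ_cons, φ_cons]
        by_cases hxN : x ∈ N
        · rw [hz x hxN, zero_mul, zero_mul, add_zero]
        · rw [SB_cons_val_succ, Fin.cons_succ] at hs
          rw [← mul_add, (hΦ x hx hxN).1.swap t _ ht ht' a b (by simpa using hab) hs rfl, mul_zero]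
  · intro e he hg
    obtain ⟨x, t, rfl⟩ : ∃ x t, e = Fin.cons x t := ⟨e 0, Fin.tail e, (Fin.cons_self_tail e).symm⟩
    obtain ⟨hx, ht⟩ := (admR_cons_iff x t).1 he
    obtain ⟨hxN, htg⟩ := (good_cons_iff x t).1 hg
    rw [φ_cons]
    exact mul_ne_zero (hne x hx hxN) ((hΦ x hx hxN).2 t ht htg)

theorem residue_eq_zero_of_smul_mem {x : M} {a : R} {N : Submodule R M} (h : a • x ∈ N)
    (hx' : x ∉ N) : residue R a = 0 := by
  refine (residue_eq_zero_iff a).2 ?_
  by_contra ha
  obtain ⟨u, rfl⟩ := isUnit_of_notMem_maximalIdeal ha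
  refine hx' ?_
  have := N.smul_mem (↑u⁻¹ : R) h
  rwa [smul_smul, Units.inv_mul, one_smul] at this

end Groth.Agent.Lib.CycDet
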