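import Groth.Prelude.Def_CycDet
import Mathlib.RingTheory.Length
import Mathlib.RingTheory.SimpleModule.Basic
import Mathlib.Data.Fin.Tuple.Basic

/-!
# Admissible tuples relative to a submodule

`SB N e i = N + ⟨e_j : j < i⟩`; admissible and good tuples relative to `N`, and their counting by length.
-/

set_option autoImplicit false
set_option linter.unusedSectionVars false

universe u v

namespace Groth.Agent.Lib.CycDet

open IsLocalRing

variable {R : Type u} [CommRing R] [IsLocalRing R] {M : Type v} [AddCommGroup M] [Module R M]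

/-- `N + ⟨e_j : j < i⟩`. -/
def SB (N : Submodule R M) {l : ℕ} (e : Fin l → M) (i : ℕ) : Submodule R M :=
  N ⊔ CycDet.spanBefore R M e i

/-- The element is killed by the maximal ideal modulo `N`. -/
def Soc (N : Submodule R M) (x : M) : Prop := ∀ r ∈ maximalIdeal R, r • x ∈ N

/-- Admissible relative to `N`. -/
def AdmR (N : Submodule R M) {l : ℕ} (e : Fin l → M) : Prop := ∀ i : Fin l, Soc (SB N e i) (e i)

/-- No entry lies in the span of `N` and the earlier ones. -/
def Good (N : Submodule R M) {l : ℕ} (e : Fin l → M) : Prop := ∀ i : Fin l, e i ∉ SB N e i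

/-- The length of `M / N`. -/
noncomputable def len (N : Submodule R M) : ℕ∞ := Module.length R (M ⧸ N)

variable {N : Submodule R M} {l : ℕ}

theorem SB_bot (e : Fin l → M) (i : ℕ) : SB ⊥ e i = CycDet.spanBefore R M e i := bot_sup_eq _

theorem admR_bot_iff (e : Fin l → M) : AdmR (⊥ : Submodule R M) e ↔ CycDet.IsAdmissible R M e := by
  refine forall_congr' fun i => forall_congr' fun r => forall_congr' fun _ => ?_
  rw [SB_bot]

theorem spanBefore_zero (e : Fin l → M) : CycDet.spanBefore R M e 0 = ⊥ := by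
  simp [CycDet.spanBefore]

theorem SB_zero (e : Fin l → M) : SB N e 0 = N := by
  rw [SB, spanBefore_zero, sup_bot_eq]

theorem le_SB (e : Fin l → M) (i : ℕ) : N ≤ SB N e i := le_sup_left

theorem SB_mono (e : Fin l → M) {i j : ℕ} (h : i ≤ j) : SB N e i ≤ SB N e j :=
  sup_le_sup_left (Submodule.span_mono (Set.image_mono fun _ (hk : _ < i) => lt_of_lt_of_le hk h)) _

theorem mem_SB (e : Fin l → M) (j : Fin l) {i : ℕ} (h : (j : ℕ) < i) : e j ∈ SB N e i :=
  Submodule.mem_sup_right (Submodule.subset_span ⟨j, h, rfl⟩)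

theorem SB_congr {e e' : Fin l → M} {i : ℕ} (h : ∀ j : Fin l, (j : ℕ) < i → e j = e' j) :
    SB N e i = SB N e' i := by
  have := Set.image_congr (f := e) (g := e') (s := {j : Fin l | (j : ℕ) < i}) h
  rw [SB, SB, CycDet.spanBefore, CycDet.spanBefore, this]

theorem SB_cons_succ (x : M) (t : Fin l → M) (i : ℕ) :
    SB N (Fin.cons x t) (i + 1) = SB (N ⊔ Submodule.span R {x}) t i := by
  have h : (Fin.cons x t : Fin (l + 1) → M) '' {j | (j : ℕ) < i + 1} = insert x (t '' {j | (j : ℕ) < i}) := by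
    ext y
    simp only [Set.mem_image, Set.mem_insert_iff, Set.mem_ofPred_eq]
    constructor
    · rintro ⟨j, hj, rfl⟩
      refine Fin.cases (fun _ => Or.inl rfl) (fun j hj => Or.inr ⟨j, ?_, ?_⟩) j hj
      · simpa using hj
      · simp
    · rintro (rfl | ⟨j, hj, rfl⟩)
      · exact ⟨0, by simp, rfl⟩
      · exact ⟨j.succ, by simpa using hj, by simp⟩
  rw [SB, SB, CycDet.spanBefore, CycDet.spanBefore, h, Submodule.span_insert, sup_assoc]

theorem SB_cons_val_zero (x : M) (t : Fin l → M) :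
    SB N (Fin.cons x t : Fin (l + 1) → M) ((0 : Fin (l + 1)) : ℕ) = N := SB_zero _

theorem SB_cons_val_succ (x : M) (t : Fin l → M) (i : Fin l) :
    SB N (Fin.cons x t : Fin (l + 1) → M) (i.succ : Fin (l + 1)) = SB (N ⊔ Submodule.span R {x}) t i := by
  rw [Fin.val_succ, SB_cons_succ]

theorem SB_top_cons (x : M) (t : Fin l → M) :
    SB N (Fin.cons x t : Fin (l + 1) → M) (l + 1) = SB (N ⊔ Submodule.span R {x}) t l := SB_cons_succ x t l

theorem admR_cons_iff (x : M) (t : Fin l → M) :
    AdmR N (Fin.cons x t : Fin (l + 1) → M) ↔ Soc N x ∧ AdmR (N ⊔ Submodule.span R {x}) t := by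
  rw [AdmR, Fin.forall_fin_succ]
  simp only [Fin.cons_zero, Fin.cons_succ, SB_cons_val_zero, SB_cons_val_succ]
  rfl

theorem good_cons_iff (x : M) (t : Fin l → M) :
    Good N (Fin.cons x t : Fin (l + 1) → M) ↔ x ∉ N ∧ Good (N ⊔ Submodule.span R {x}) t := by
  rw [Good, Fin.forall_fin_succ]
  simp only [Fin.cons_zero, Fin.cons_succ, SB_cons_val_zero, SB_cons_val_succ]
  rfl

theorem isUnit_of_notMem_maximalIdeal {a : R} (h : a ∉ maximalIdeal R) : IsUnit a :=
  Classical.not_not.1 fun h' => h ((mem_maximalIdeal a).2 h')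

theorem Soc.mono {N' : Submodule R M} {x : M} (h : Soc N x) (hle : N ≤ N') : Soc N' x :=
  fun r hr => hle (h r hr)

/-- The dichotomy for socle elements. -/
theorem Soc.unit_of_smul_notMem {x : M} (h : Soc N x) {a : R} (ha : a • x ∉ N) : IsUnit a :=
  isUnit_of_notMem_maximalIdeal fun hm => ha (h a hm)

theorem len_eq_zero_iff : len N = 0 ↔ N = ⊤ := by
  rw [len, Module.length_eq_zero_iff, Submodule.Quotient.subsingleton_iff]

theorem len_eq_len_add_one {x : M} (hs : Soc N x) (hx : x ∉ N) :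
    len N = len (N ⊔ Submodule.span R {x}) + 1 := by
  set N' := N ⊔ Submodule.span R {x}
  let K : Submodule R (M ⧸ N) := Submodule.span R {N.mkQ x}
  have hK : IsSimpleModule R K := by
    rw [isSimpleModule_iff_toSpanSingleton_surjective]
    refine ⟨nontrivial_of_ne (⟨N.mkQ x, Submodule.mem_span_singleton_self _⟩ : K) 0 ?_, ?_⟩
    · simpa [Subtype.ext_iff, Submodule.Quotient.mk_eq_zero] using hx
    rintro ⟨y, hy⟩ hy0 ⟨z, hz⟩
    obtain ⟨a, rfl⟩ := Submodule.mem_span_singleton.1 hy
    obtain ⟨b, rfl⟩ := Submodule.mem_span_singleton.1 hz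
    obtain ⟨u, rfl⟩ := hs.unit_of_smul_notMem (N := N) (a := a) (x := x) fun h => hy0 (Subtype.ext (by
      show a • N.mkQ x = 0
      rw [← map_smul]
      exact (Submodule.Quotient.mk_eq_zero N).2 h))
    refine ⟨b * (↑u⁻¹ : R), Subtype.ext ?_⟩
    simp [smul_smul, mul_assoc]
  have hker : LinearMap.range K.subtype = LinearMap.ker (Submodule.factor (le_sup_left : N ≤ N')) := by
    rw [Submodule.range_subtype, Submodule.factor, Submodule.mapQ, Submodule.ker_liftQ, LinearMap.ker_comp,
      Submodule.ker_mkQ]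
    rw [Submodule.comap_id, Submodule.map_sup, Submodule.map_span, Set.image_singleton]
    rw [Submodule.mkQ_map_self, bot_sup_eq]
  rw [len, len, Module.length_eq_add_of_exact K.subtype (Submodule.factor (le_sup_left : N ≤ N'))
    K.injective_subtype (Submodule.factor_surjective _) (LinearMap.exact_iff.2 hker.symm),
    Module.length_eq_one, add_comm]

theorem len_sup_eq {x : M} {n : ℕ} (hs : Soc N x) (hx : x ∉ N) (hN : len N = (n + 1 : ℕ)) :
    len (N ⊔ Submodule.span R {x}) = n := by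
  rw [len_eq_len_add_one hs hx, Nat.cast_add, Nat.cast_one] at hN
  exact WithTop.add_right_cancel ENat.one_ne_top hN

theorem exists_soc_notMem {n : ℕ} (hN : len N = (n + 1 : ℕ)) : ∃ x, Soc N x ∧ x ∉ N := by
  have hfl : IsFiniteLength R (M ⧸ N) := Module.length_ne_top_iff.1 (by
    show len N ≠ ⊤
    rw [hN]; exact ENat.natCast_ne_top _)
  have : IsArtinian R (M ⧸ N) := (isFiniteLength_iff_isNoetherian_isArtinian.1 hfl).2
  have : Nontrivial (M ⧸ N) := Module.length_pos_iff.1 (by
    show 0 < len N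
    rw [hN]; exact_mod_cast Nat.succ_pos n)
  obtain h | ⟨K, hK, -⟩ := IsAtomic.eq_bot_or_exists_atom_le (⊤ : Submodule R (M ⧸ N))
  · exact absurd h top_ne_bot
  have hs : IsSimpleModule R K := isSimpleModule_iff_isAtom.2 hK
  obtain ⟨y, hy, hy0⟩ := Submodule.exists_mem_ne_zero_of_ne_bot hK.1
  obtain ⟨x, rfl⟩ := N.mkQ_surjective y
  refine ⟨x, fun r hr => ?_, fun h => hy0 ((Submodule.Quotient.mk_eq_zero N).2 h)⟩
  have hm := IsSimpleModule.annihilator_isMaximal (R := R) (M := K)
  rw [← IsLocalRing.eq_maximalIdeal hm, Module.mem_annihilator] at hr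
  refine (Submodule.Quotient.mk_eq_zero N).1 ?_
  exact congrArg Subtype.val (hr ⟨N.mkQ x, hy⟩)

theorem exists_good : ∀ {n : ℕ} {N : Submodule R M}, len N = n → ∃ e : Fin n → M, AdmR N e ∧ Good N e := by
  intro n
  induction n with
  | zero => exact fun _ => ⟨Fin.elim0, fun i => i.elim0, fun i => i.elim0⟩
  | succ n ih =>
    intro N hN
    obtain ⟨x, hs, hx⟩ := exists_soc_notMem hN
    obtain ⟨t, ht, htg⟩ := ih (len_sup_eq hs hx hN)
    exact ⟨Fin.cons x t, (admR_cons_iff x t).2 ⟨hs, ht⟩, (good_cons_iff x t).2 ⟨hx, htg⟩⟩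

theorem SB_top_of_good : ∀ {n : ℕ} {N : Submodule R M} (e : Fin n → M),
    len N = n → AdmR N e → Good N e → SB N e n = ⊤ := by
  intro n
  induction n with
  | zero => intro N e hN _ _; rw [SB_zero]; exact len_eq_zero_iff.1 (by simpa using hN)
  | succ n ih =>
    intro N e hN ha hg
    obtain ⟨x, t, rfl⟩ : ∃ x t, e = Fin.cons x t := ⟨e 0, Fin.tail e, (Fin.cons_self_tail e).symm⟩
    obtain ⟨hs, hta⟩ := (admR_cons_iff x t).1 ha
    obtain ⟨hx, htg⟩ := (good_cons_iff x t).1 hg
    rw [SB_top_cons]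
    exact ih t (len_sup_eq hs hx hN) hta htg

theorem len_le_of_SB_top : ∀ {n : ℕ} {N : Submodule R M} (e : Fin n → M),
    AdmR N e → SB N e n = ⊤ → len N ≤ n ∧ (¬ Good N e → len N + 1 ≤ n) := by
  intro n
  induction n with
  | zero =>
    intro N e _ h
    rw [SB_zero] at h
    exact ⟨(len_eq_zero_iff.2 h).le.trans (by simp), fun hg => absurd (fun i => i.elim0) hg⟩
  | succ n ih =>
    intro N e ha h
    obtain ⟨x, t, rfl⟩ : ∃ x t, e = Fin.cons x t := ⟨e 0, Fin.tail e, (Fin.cons_self_tail e).symm⟩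
    obtain ⟨hs, hta⟩ := (admR_cons_iff x t).1 ha
    rw [SB_top_cons] at h
    obtain ⟨h1, h2⟩ := ih t hta h
    by_cases hx : x ∈ N
    · rw [sup_eq_left.2 ((Submodule.span_singleton_le_iff_mem _ _).2 hx)] at h1
      have : len N + 1 ≤ ((n + 1 : ℕ) : ℕ∞) := by push_cast; gcongr
      exact ⟨le_trans (le_self_add) this, fun _ => this⟩
    · rw [len_eq_len_add_one hs hx]
      refine ⟨by push_cast; gcongr, fun hg => ?_⟩
      have hg' : ¬ Good (N ⊔ Submodule.span R {x}) t := fun hh => hg ((good_cons_iff x t).2 ⟨hx, hh⟩)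
      push_cast
      gcongr
      exact h2 hg'

theorem good_of_SB_top {n : ℕ} (e : Fin n → M) (ha : AdmR N e) (hN : len N = n) (h : SB N e n = ⊤) :
    Good N e := by
  by_contra hg
  have := (len_le_of_SB_top e ha h).2 hg
  rw [hN] at this
  exact absurd this (by
    rw [not_le]
    exact_mod_cast Nat.lt_succ_self n)

end Groth.Agent.Lib.CycDet
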