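import Groth.Agent.Lib.CycDet.Det
import Mathlib.LinearAlgebra.TensorProduct.Basic
import Mathlib.LinearAlgebra.Isomorphisms

/-!
# Multiplicativity of determinants in short exact sequences
-/

set_option autoImplicit false
set_option linter.unusedSectionVars false

universe u v w

namespace Groth.Agent.Lib.CycDet

open IsLocalRing
open scoped TensorProduct

variable {R : Type u} [CommRing R] [IsLocalRing R] {M : Type v} [AddCommGroup M] [Module R M]
  {V : Type w} [AddCommGroup V] [Module (ResidueField R) V] {N : Submodule R M} {a b : ℕ}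

theorem SB_append_left (s : Fin a → M) (t : Fin b → M) {i : ℕ} (hi : i ≤ a) :
    SB N (Fin.append s t) i = SB N s i := by
  rw [SB, SB, _root_.CycDet.spanBefore, _root_.CycDet.spanBefore]
  congr 2
  ext y
  simp only [Set.mem_image, Set.mem_ofPred_eq]
  constructor
  · rintro ⟨j, hj, rfl⟩
    obtain ⟨j', rfl⟩ : ∃ j' : Fin a, j = Fin.castAdd b j' :=
      ⟨⟨j, by omega⟩, Fin.ext rfl⟩
    exact ⟨j', by simpa using hj, (Fin.append_left s t j').symm⟩
  · rintro ⟨j, hj, rfl⟩
    exact ⟨Fin.castAdd b j, by simpa using hj, Fin.append_left s t j⟩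

theorem SB_append_right (s : Fin a → M) (t : Fin b → M) (i : ℕ) :
    SB N (Fin.append s t) (a + i) = SB (SB N s a) t i := by
  have h : Fin.append s t '' {j | (j : ℕ) < a + i} = s '' {j | (j : ℕ) < a} ∪ t '' {j | (j : ℕ) < i} := by
    ext y
    simp only [Set.mem_image, Set.mem_union, Set.mem_ofPred_eq]
    constructor
    · rintro ⟨j, hj, rfl⟩
      induction j using Fin.addCases with
      | left j => exact Or.inl ⟨j, j.2, (Fin.append_left s t j).symm⟩
      | right j => exact Or.inr ⟨j, by simpa using hj, (Fin.append_right s t j).symm⟩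
    · rintro (⟨j, hj, rfl⟩ | ⟨j, hj, rfl⟩)
      · exact ⟨Fin.castAdd b j, by simp; omega, Fin.append_left s t j⟩
      · exact ⟨Fin.natAdd a j, by simpa using hj, Fin.append_right s t j⟩
  rw [SB, SB, SB, _root_.CycDet.spanBefore, _root_.CycDet.spanBefore, _root_.CycDet.spanBefore, h,
    Submodule.span_union, sup_assoc]

theorem admR_append_iff (s : Fin a → M) (t : Fin b → M) :
    AdmR N (Fin.append s t) ↔ AdmR N s ∧ AdmR (SB N s a) t := by
  constructor
  · refine fun h => ⟨fun i => ?_, fun i => ?_⟩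
    · have := h (Fin.castAdd b i)
      rwa [Fin.append_left, Fin.val_castAdd, SB_append_left s t i.2.le] at this
    · have := h (Fin.natAdd a i)
      rwa [Fin.append_right, Fin.val_natAdd, SB_append_right] at this
  · rintro ⟨h1, h2⟩ i
    induction i using Fin.addCases with
    | left i => rw [Fin.append_left, Fin.val_castAdd, SB_append_left s t i.2.le]; exact h1 i
    | right i => rw [Fin.append_right, Fin.val_natAdd, SB_append_right]; exact h2 i

theorem good_append {s : Fin a → M} {t : Fin b → M} (h1 : Good N s) (h2 : Good (SB N s a) t) :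
    Good N (Fin.append s t) := by
  intro i
  induction i using Fin.addCases with
  | left i => rw [Fin.append_left, Fin.val_castAdd, SB_append_left s t i.2.le]; exact h1 i
  | right i => rw [Fin.append_right, Fin.val_natAdd, SB_append_right]; exact h2 i

theorem append_comp_swap_right (s : Fin a → M) (t : Fin b → M) (i j : Fin b) :
    Fin.append s t ∘ Equiv.swap (Fin.natAdd a i) (Fin.natAdd a j) = Fin.append s (t ∘ Equiv.swap i j) := by
  funext x
  induction x using Fin.addCases with
  | left x =>
    have h : ∀ y : Fin b, Fin.castAdd b x ≠ Fin.natAdd a y := fun y e => by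
      have := congrArg Fin.val e; simp at this; omega
    simp [Equiv.swap_apply_of_ne_of_ne (h i) (h j)]
  | right x =>
    have : Function.Injective (Fin.natAdd a : Fin b → Fin (a + b)) := fun p q e => by
      have := congrArg Fin.val e; simp at this; exact Fin.ext this
    simp [this.swap_apply]

theorem append_comp_swap_left (s : Fin a → M) (t : Fin b → M) (i j : Fin a) :
    Fin.append s t ∘ Equiv.swap (Fin.castAdd b i) (Fin.castAdd b j) = Fin.append (s ∘ Equiv.swap i j) t := by
  funext x
  induction x using Fin.addCases with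
  | left x =>
    have : Function.Injective (Fin.castAdd b : Fin a → Fin (a + b)) := fun p q e => by
      have := congrArg Fin.val e; simp at this; exact Fin.ext this
    simp [this.swap_apply]
  | right x =>
    have h : ∀ y : Fin a, Fin.natAdd a x ≠ Fin.castAdd b y := fun y e => by
      have := congrArg Fin.val e; simp at this; omega
    simp [Equiv.swap_apply_of_ne_of_ne (h i) (h j)]

/-- Fixing a prefix. -/
theorem RelFun.append_right {ψ : (Fin (a + b) → M) → V} (hψ : RelFun N (a + b) ψ) {s : Fin a → M}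
    (hs : AdmR N s) : RelFun (SB N s a) b (fun t => ψ (Fin.append s t)) where
  zero t ht i hi := hψ.zero _ ((admR_append_iff s t).2 ⟨hs, ht⟩) (Fin.natAdd a i) (by
    rw [Fin.append_right, Fin.val_natAdd, SB_append_right]; exact hi)
  smul t t' ht ht' i c hj hc := hψ.smul _ _ ((admR_append_iff s t).2 ⟨hs, ht⟩) ((admR_append_iff s t').2 ⟨hs, ht'⟩)
    (Fin.natAdd a i) c (fun j hne => by
      induction j using Fin.addCases with
      | left j => simp
      | right j => simpa using hj j fun e => hne (by rw [e]))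
    (by rw [Fin.append_right, Fin.append_right, Fin.val_natAdd, SB_append_right]; exact hc)
  swap t t' ht ht' i j hij hsoc he := hψ.swap _ _ ((admR_append_iff s t).2 ⟨hs, ht⟩)
    ((admR_append_iff s t').2 ⟨hs, ht'⟩) (Fin.natAdd a i) (Fin.natAdd a j) (by simp; omega)
    (by rw [Fin.append_right, Fin.val_natAdd, SB_append_right]; exact hsoc) (by rw [append_comp_swap_right, he])

theorem RelFun.cast {n : ℕ} (h : a = n) {ψ : (Fin n → M) → V} (hψ : RelFun N n ψ) :
    RelFun N a (fun e => ψ (e ∘ Fin.cast h.symm)) := by subst h; exact hψ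

theorem AdmR.cast {n : ℕ} (h : a = n) {e : Fin a → M} (he : AdmR N e) : AdmR N (e ∘ Fin.cast h.symm) := by
  subst h; exact he

theorem Good.cast {n : ℕ} (h : a = n) {e : Fin a → M} (he : Good N e) : Good N (e ∘ Fin.cast h.symm) := by
  subst h; exact he

section Map

variable {M' : Type v} [AddCommGroup M'] [Module R M'] {N' : Submodule R M'} (f : M' →ₗ[R] M)

theorem map_SB (e : Fin a → M') (i : ℕ) : (SB N' e i).map f = SB (N'.map f) (f ∘ e) i := by
  rw [SB, SB, Submodule.map_sup, _root_.CycDet.spanBefore, _root_.CycDet.spanBefore, Submodule.map_span,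
    Set.image_comp]

theorem map_SB_le (h : N'.map f ≤ N) (e : Fin a → M') (i : ℕ) : (SB N' e i).map f ≤ SB N (f ∘ e) i := by
  rw [map_SB]
  exact sup_le_sup_right h _

theorem AdmR.map (h : N'.map f ≤ N) {e : Fin a → M'} (he : AdmR N' e) : AdmR N (f ∘ e) := fun i r hr =>
  map_SB_le f h e i ⟨r • e i, he i r hr, map_smul f r (e i)⟩

theorem RelFun.comp_map (h : N'.map f ≤ N) {ψ : (Fin a → M) → V} (hψ : RelFun N a ψ) :
    RelFun N' a (fun e => ψ (f ∘ e)) where
  zero e he i hi := hψ.zero _ (he.map f h) i (map_SB_le f h e i ⟨_, hi, rfl⟩)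
  smul e e' he he' i c hj hc := hψ.smul _ _ (he.map f h) (he'.map f h) i c
    (fun j hne => congrArg f (hj j hne)) (map_SB_le f h e i ⟨_, hc, by simp⟩)
  swap e e' he he' i j hij hs hee := hψ.swap _ _ (he.map f h) (he'.map f h) i j hij
    (fun r hr => map_SB_le f h e j ⟨_, hs r hr, by simp⟩) (by rw [hee]; rfl)

theorem Good.map_of_injective (hf : Function.Injective f) {e : Fin a → M'} (he : Good (⊥ : Submodule R M') e) :
    Good (⊥ : Submodule R M) (f ∘ e) := by
  intro i hi
  rw [← Submodule.map_bot f, ← map_SB] at hi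
  obtain ⟨y, hy, hye⟩ := hi
  exact he i (hf hye ▸ hy)

theorem mem_SB_ker_iff {e : Fin a → M'} {i : ℕ} {y : M'} :
    f y ∈ SB (⊥ : Submodule R M) (f ∘ e) i ↔ y ∈ SB (LinearMap.ker f) e i := by
  rw [show SB (⊥ : Submodule R M) (f ∘ e) i = (SB (LinearMap.ker f) e i).map f by
    rw [map_SB, show (LinearMap.ker f).map f = ⊥ from le_bot_iff.1 (by rintro _ ⟨z, hz, rfl⟩; simpa using hz)]]
  rw [← Submodule.mem_comap, Submodule.comap_map_eq, sup_eq_left.2 (le_SB (N := LinearMap.ker f) e i)]

theorem admR_ker_iff {e : Fin a → M'} : AdmR (⊥ : Submodule R M) (f ∘ e) ↔ AdmR (LinearMap.ker f) e := by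
  refine forall_congr' fun i => forall_congr' fun r => forall_congr' fun _ => ?_
  rw [Function.comp_apply, ← map_smul]
  exact mem_SB_ker_iff f

theorem good_ker_iff {e : Fin a → M'} : Good (⊥ : Submodule R M) (f ∘ e) ↔ Good (LinearMap.ker f) e :=
  forall_congr' fun _ => not_congr (mem_SB_ker_iff f)

end Map

end Groth.Agent.Lib.CycDet

namespace Groth.Agent.Lib.CycDet.Gamma

open IsLocalRing
open Groth.Agent.Lib.CycDet Groth.Agent.Lib.CycDet.Det
open scoped TensorProduct

variable {R : Type u} [CommRing R] [IsLocalRing R] {K L M : Type v} [AddCommGroup K] [Module R K]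
  [AddCommGroup L] [Module R L] [AddCommGroup M] [Module R M] {a b n : ℕ}
  {f : K →ₗ[R] L} {g : L →ₗ[R] M}

theorem span_range_mono_of_smul {X : Type v} [AddCommGroup X] [Module R X] {e e' : Fin a → X} {i : Fin a} {c : R}
    (hj : ∀ j, j ≠ i → e j = e' j) (hc : e i - c • e' i ∈ SB (⊥ : Submodule R X) e i) :
    Submodule.span R (Set.range e) ≤ Submodule.span R (Set.range e') := by
  rw [Submodule.span_le]
  rintro _ ⟨j, rfl⟩
  by_cases h : j = i
  · subst h
    rw [← sub_add_cancel (e j) (c • e' j)]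
    refine add_mem ?_ (Submodule.smul_mem _ _ (Submodule.subset_span ⟨j, rfl⟩))
    rw [SB_bot] at hc
    refine (Submodule.span_le.2 ?_) hc
    rintro _ ⟨k, hk, rfl⟩
    exact Submodule.subset_span ⟨k, (hj k fun h => by rw [h] at hk; exact lt_irrefl (j : ℕ) hk).symm⟩
  · exact Submodule.subset_span ⟨j, (hj j h).symm⟩

theorem SB_bot_last {X : Type v} [AddCommGroup X] [Module R X] (e : Fin a → X) :
    SB (⊥ : Submodule R X) e a = Submodule.span R (Set.range e) := by
  rw [SB_bot, spanBefore_last]

variable (hf : Function.Injective f) (hg : Function.Surjective g) (hfg : LinearMap.range f = LinearMap.ker g)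
  (hK : len (⊥ : Submodule R K) = a) (hM : len (⊥ : Submodule R M) = b) (hL : len (⊥ : Submodule R L) = n)
  (hn : a + b = n)

include hg hM in
theorem len_ker : len (LinearMap.ker g) = b := by
  rw [← hM]
  exact ((LinearMap.quotKerEquivOfSurjective g hg).trans (Submodule.quotEquivOfEqBot _ rfl).symm).length_eq

include hfg hK in
theorem SB_map_good {eK : Fin a → K} (ha : AdmR (⊥ : Submodule R K) eK) (hgood : Good (⊥ : Submodule R K) eK) :
    SB (⊥ : Submodule R L) (f ∘ eK) a = LinearMap.ker g := by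
  rw [← Submodule.map_bot f, ← map_SB, SB_top_of_good eK hK ha hgood, Submodule.map_top, hfg]

open Classical in
include hfg hK in
/-- Varying the prefix. -/
theorem relFun_left {V : Type w} [AddCommGroup V] [Module (ResidueField R) V] {ψ : (Fin (a + b) → L) → V}
    (hψ : RelFun (⊥ : Submodule R L) (a + b) ψ) {t : Fin b → L} (ht : AdmR (LinearMap.ker g) t) :
    RelFun (⊥ : Submodule R K) a
      (fun s => if Good (⊥ : Submodule R K) s then ψ (Fin.append (f ∘ s) t) else 0) where
  zero e _ i hi := if_neg fun h => h i hi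
  smul e e' he he' i c hj hc := by
    have hadm : ∀ {e}, AdmR (⊥ : Submodule R K) e → Good (⊥ : Submodule R K) e →
        AdmR (⊥ : Submodule R L) (Fin.append (f ∘ e) t) := fun {e} h h' =>
      (admR_append_iff _ _).2 ⟨h.map f (Submodule.map_bot f).le, by rwa [SB_map_good hfg hK h h']⟩
    have hiff : Good (⊥ : Submodule R K) e ↔ Good (⊥ : Submodule R K) e' := by
      have hc' : e' i - (↑c⁻¹ : R) • e i ∈ SB (⊥ : Submodule R K) e' i := by
        rw [SB_congr (e' := e) fun j hjlt => (hj j fun h => by rw [h] at hjlt; exact lt_irrefl _ hjlt).symm]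
        have := Submodule.smul_mem _ (-(↑c⁻¹ : R)) hc
        rwa [smul_sub, smul_smul, neg_mul, Units.inv_mul, neg_smul, neg_smul, one_smul, sub_neg_eq_add, add_comm,
          ← sub_eq_add_neg] at this
      have heq : Submodule.span R (Set.range e) = Submodule.span R (Set.range e') :=
        le_antisymm (span_range_mono_of_smul hj hc) (span_range_mono_of_smul (fun j h => (hj j h).symm) hc')
      constructor
      · exact fun h => good_of_SB_top _ he' hK (by
          rw [SB_bot_last, ← heq, ← SB_bot_last]; exact SB_top_of_good _ hK he h)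
      · exact fun h => good_of_SB_top _ he hK (by
          rw [SB_bot_last, heq, ← SB_bot_last]; exact SB_top_of_good _ hK he' h)
    by_cases h : Good (⊥ : Submodule R K) e
    · simp only [if_pos h, if_pos (hiff.1 h)]
      refine hψ.smul _ _ (hadm he h) (hadm he' (hiff.1 h)) (Fin.castAdd b i) c (fun j hne => ?_) ?_
      · induction j using Fin.addCases with
        | left j => simpa using congrArg f (hj j fun e => hne (by rw [e]))
        | right j => simp
      · rw [Fin.append_left, Fin.append_left, Fin.val_castAdd, SB_append_left _ _ i.2.le]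
        exact map_SB_le f (Submodule.map_bot f).le e i ⟨_, hc, by simp⟩
    · simp only [if_neg h, if_neg (fun h' => h (hiff.2 h')), smul_zero]
  swap e e' he he' i j hij hs hee := by
    have hadm : ∀ {e}, AdmR (⊥ : Submodule R K) e → Good (⊥ : Submodule R K) e →
        AdmR (⊥ : Submodule R L) (Fin.append (f ∘ e) t) := fun {e} h h' =>
      (admR_append_iff _ _).2 ⟨h.map f (Submodule.map_bot f).le, by rwa [SB_map_good hfg hK h h']⟩
    have hiff : Good (⊥ : Submodule R K) e ↔ Good (⊥ : Submodule R K) e' := by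
      have heq : Submodule.span R (Set.range e) = Submodule.span R (Set.range e') := by
        rw [hee, EquivLike.range_comp]
      constructor
      · exact fun h => good_of_SB_top _ he' hK (by
          rw [SB_bot_last, ← heq, ← SB_bot_last]; exact SB_top_of_good _ hK he h)
      · exact fun h => good_of_SB_top _ he hK (by
          rw [SB_bot_last, heq, ← SB_bot_last]; exact SB_top_of_good _ hK he' h)
    by_cases h : Good (⊥ : Submodule R K) e
    · simp only [if_pos h, if_pos (hiff.1 h)]
      refine hψ.swap _ _ (hadm he h) (hadm he' (hiff.1 h)) (Fin.castAdd b i) (Fin.castAdd b j) (by simpa using hij)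
        ?_ (by rw [append_comp_swap_left, hee]; rfl)
      rw [Fin.append_left, Fin.val_castAdd, SB_append_left _ _ j.2.le]
      exact fun r hr => map_SB_le f (Submodule.map_bot f).le e j ⟨_, hs r hr, by simp⟩
    · simp only [if_neg h, if_neg (fun h' => h (hiff.2 h')), add_zero]

include hf hg hfg hK hM hL hn in
theorem exists_gamma :
    ∃ γ : (_root_.CycDet.DetOfLen R K a ⊗[ResidueField R] _root_.CycDet.DetOfLen R M b) ≃ₗ[ResidueField R]
        _root_.CycDet.DetOfLen R L n,
      ∀ (eK : _root_.CycDet.Adm R K a) (eM : _root_.CycDet.Adm R M b) (eL : _root_.CycDet.Adm R L n),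
        cls eK ≠ 0 → (∀ i, eL.1 (Fin.cast hn (Fin.castAdd b i)) = f (eK.1 i)) →
        (∀ j, g (eL.1 (Fin.cast hn (Fin.natAdd a j))) = eM.1 j) → γ (cls eK ⊗ₜ cls eM) = cls eL := by
  classical
  obtain ⟨k₀, hk₀⟩ := exists_good_adm hK
  obtain ⟨t₀, ht₀, hgt₀⟩ := exists_good (len_ker hg hM)
  have hk₀a := (admR_bot_iff _).2 k₀.2
  let m₀ : _root_.CycDet.Adm R M b := ⟨g ∘ t₀, (admR_bot_iff _).1 ((admR_ker_iff g).2 ht₀)⟩
  have hm₀ : Good (⊥ : Submodule R M) m₀.1 := (good_ker_iff g).2 hgt₀
  have hl₀a : AdmR (⊥ : Submodule R L) (Fin.append (f ∘ k₀.1) t₀) :=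
    (admR_append_iff _ _).2 ⟨hk₀a.map f (Submodule.map_bot f).le, by rwa [SB_map_good hfg hK hk₀a hk₀]⟩
  have hl₀g : Good (⊥ : Submodule R L) (Fin.append (f ∘ k₀.1) t₀) :=
    good_append (hk₀.map_of_injective f hf) (by rwa [SB_map_good hfg hK hk₀a hk₀])
  let l₀ : _root_.CycDet.Adm R L n :=
    ⟨Fin.append (f ∘ k₀.1) t₀ ∘ Fin.cast hn.symm, (admR_bot_iff _).1 (hl₀a.cast hn)⟩
  have hl₀ : Good (⊥ : Submodule R L) l₀.1 := hl₀g.cast hn
  obtain ⟨φK, hφK, hneK⟩ := exists_detFun hK
  obtain ⟨φM, hφM, hneM⟩ := exists_detFun hM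
  let coordK : _root_.CycDet.DetOfLen R K a →ₗ[ResidueField R] ResidueField R := (φK k₀.1)⁻¹ • Det.lift hφK
  let coordM : _root_.CycDet.DetOfLen R M b →ₗ[ResidueField R] ResidueField R := (φM m₀.1)⁻¹ • Det.lift hφM
  have cK : coordK (cls k₀) = 1 := by
    simp only [coordK, LinearMap.smul_apply, lift_cls, smul_eq_mul]
    exact inv_mul_cancel₀ (hneK _ hk₀a hk₀)
  have cM : coordM (cls m₀) = 1 := by
    simp only [coordM, LinearMap.smul_apply, lift_cls, smul_eq_mul]
    exact inv_mul_cancel₀ (hneM _ ((admR_bot_iff _).2 m₀.2) hm₀)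
  let B : (_root_.CycDet.DetOfLen R K a ⊗[ResidueField R] _root_.CycDet.DetOfLen R M b) →ₗ[ResidueField R]
      _root_.CycDet.DetOfLen R L n :=
    TensorProduct.lift (LinearMap.mk₂ (ResidueField R) (fun z w => (coordK z * coordM w) • cls l₀)
      (fun x y w => by simp [add_mul, add_smul]) (fun c x w => by simp [smul_smul, mul_assoc])
      (fun x y w => by simp [mul_add, add_smul]) (fun c x w => by simp [smul_smul, mul_left_comm]))
  have hB : ∀ r s : ResidueField R, B ((r • cls k₀) ⊗ₜ (s • cls m₀)) = (r * s) • cls l₀ := by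
    intro r s
    simp [B, cK, cM, smul_smul, mul_comm]
  have hT : ∀ z : _root_.CycDet.DetOfLen R K a ⊗[ResidueField R] _root_.CycDet.DetOfLen R M b,
      ∃ r : ResidueField R, z = r • (cls k₀ ⊗ₜ cls m₀) := by
    intro z
    induction z using TensorProduct.induction_on with
    | zero => exact ⟨0, by simp⟩
    | tmul x y =>
      obtain ⟨r, rfl⟩ := exists_smul_cls hK k₀ hk₀ x
      obtain ⟨s, rfl⟩ := exists_smul_cls hM m₀ hm₀ y
      exact ⟨r * s, by rw [TensorProduct.smul_tmul', ← TensorProduct.smul_tmul, smul_smul, mul_comm r s]⟩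
    | add x y hx hy =>
      obtain ⟨r, rfl⟩ := hx
      obtain ⟨s, rfl⟩ := hy
      exact ⟨r + s, (add_smul _ _ _).symm⟩
  have hl0ne : cls l₀ ≠ 0 := cls_ne_zero hL l₀ hl₀
  have hB1 : B (cls k₀ ⊗ₜ cls m₀) = cls l₀ := by simpa using hB 1 1
  have hbij : Function.Bijective B := by
    constructor
    · rw [← LinearMap.ker_eq_bot, eq_bot_iff]
      intro z hz
      obtain ⟨r, rfl⟩ := hT z
      rw [LinearMap.mem_ker, map_smul, hB1, smul_eq_zero] at hz
      rw [hz.resolve_right hl0ne, zero_smul]
      exact zero_mem _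
    · intro y
      obtain ⟨r, rfl⟩ := exists_smul_cls hL l₀ hl₀ y
      exact ⟨r • (cls k₀ ⊗ₜ cls m₀), by rw [map_smul, hB1]⟩
  refine ⟨LinearEquiv.ofBijective B hbij, fun eK eM eL hne h1 h2 => ?_⟩
  have heKa := (admR_bot_iff _).2 eK.2
  have heKg := good_of_cls_ne_zero eK hne
  let t : Fin b → L := fun j => eL.1 (Fin.cast hn (Fin.natAdd a j))
  have hgt : g ∘ t = eM.1 := funext h2
  have hta : AdmR (LinearMap.ker g) t := (admR_ker_iff g).1 (hgt ▸ (admR_bot_iff _).2 eM.2)
  let ψ : (Fin (a + b) → L) → _root_.CycDet.DetOfLen R L n := fun e => symF (e ∘ Fin.cast hn.symm)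
  have hψ : RelFun (⊥ : Submodule R L) (a + b) ψ := relFun_symF.cast hn
  have heL : eL.1 = Fin.append (f ∘ eK.1) t ∘ Fin.cast hn.symm := by
    funext x
    obtain ⟨y, rfl⟩ : ∃ y, x = Fin.cast hn y := ⟨Fin.cast hn.symm x, Fin.ext rfl⟩
    induction y using Fin.addCases with
    | left i => simpa using h1 i
    | right j => simp [t]
  have eqL : cls eL = ψ (Fin.append (f ∘ eK.1) t) := by rw [← symF_val]; exact congrArg symF heL
  have eql₀ : cls l₀ = ψ (Fin.append (f ∘ k₀.1) t₀) := (symF_val l₀).symm
  -- vary the prefix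
  have hL1 := relFun_left hfg hK hψ ht₀
  have hp1 : RelFun (⊥ : Submodule R K) a (fun s => ((if Good (⊥ : Submodule R K) s then
      ψ (Fin.append (f ∘ s) t₀) else 0), symF (R := R) s)) :=
    { zero := fun e h i hi => Prod.ext (hL1.zero e h i hi) (relFun_symF.zero e h i hi)
      smul := fun e e' h h' i c hj hc => Prod.ext (hL1.smul e e' h h' i c hj hc) (relFun_symF.smul e e' h h' i c hj hc)
      swap := fun e e' h h' i j hij hs he => Prod.ext (hL1.swap e e' h h' i j hij hs he)
        (relFun_symF.swap e e' h h' i j hij hs he) }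
  obtain ⟨r, hr⟩ := mem_span_of_good _ hp1 hK k₀.1 eK.1 hk₀a hk₀ heKa
  simp only [if_pos heKg, if_pos hk₀, Prod.smul_mk, Prod.mk.injEq, symF_val] at hr
  -- vary the suffix
  have hR1 := hψ.append_right (heKa.map f (Submodule.map_bot f).le)
  rw [SB_map_good hfg hK heKa heKg] at hR1
  have hR2 : RelFun (LinearMap.ker g) b (fun t => symF (R := R) (g ∘ t)) :=
    relFun_symF.comp_map g (by rintro _ ⟨z, hz, rfl⟩; simpa using hz)
  have hp2 : RelFun (LinearMap.ker g) b (fun t => (ψ (Fin.append (f ∘ eK.1) t), symF (R := R) (g ∘ t))) :=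
    { zero := fun e h i hi => Prod.ext (hR1.zero e h i hi) (hR2.zero e h i hi)
      smul := fun e e' h h' i c hj hc => Prod.ext (hR1.smul e e' h h' i c hj hc) (hR2.smul e e' h h' i c hj hc)
      swap := fun e e' h h' i j hij hs he => Prod.ext (hR1.swap e e' h h' i j hij hs he)
        (hR2.swap e e' h h' i j hij hs he) }
  obtain ⟨s, hs⟩ := mem_span_of_good _ hp2 (len_ker hg hM) t₀ t ht₀ hgt₀ hta
  simp only [Prod.smul_mk, Prod.mk.injEq, hgt, symF_val] at hs
  have hs2 : cls eM = s • cls m₀ := hs.2.trans (congrArg _ (symF_val m₀))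
  rw [LinearEquiv.ofBijective_apply, hr.2, hs2, hB, eqL, hs.1, hr.1, smul_smul, eql₀, mul_comm]

end Groth.Agent.Lib.CycDet.Gamma
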