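import Groth.Agent.Lib.CycDet.Flag
import Mathlib.RingTheory.Support
import Mathlib.Algebra.Module.LocalizedModule.Exact
import Mathlib.RingTheory.Ideal.AssociatedPrime.Localization
import Mathlib.RingTheory.Localization.AtPrime.Basic

/-!
# Filtrations with all quotients `R/q` at a minimal prime of the support
-/

set_option autoImplicit false
set_option linter.unusedSectionVars false

universe u

namespace Groth.Agent.Lib.CycDet.GoodSeq

open Groth.Agent.Lib.CycDet

variable {R : Type u} [CommRing R] [IsLocalRing R] {M : Type u} [AddCommGroup M] [Module R M]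
  (q : PrimeSpectrum R)

/-- Each successive annihilator is exactly `q`. -/
def Chain (N : Submodule R M) {l : ℕ} (x : Fin l → M) : Prop :=
  ∀ (i : Fin l) (a : R), a • x i ∈ SB N x i ↔ a ∈ q.asIdeal

/-- The length at `q` of `M / N`. -/
noncomputable def lenAt (N : Submodule R M) : ℕ∞ :=
  Module.length (Localization.AtPrime q.asIdeal) (LocalizedModule q.asIdeal.primeCompl (M ⧸ N))

variable {q}

theorem chain_cons_iff {N : Submodule R M} {l : ℕ} (x : M) (t : Fin l → M) :
    Chain q N (Fin.cons x t : Fin (l + 1) → M) ↔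
      (∀ a : R, a • x ∈ N ↔ a ∈ q.asIdeal) ∧ Chain q (N ⊔ Submodule.span R {x}) t := by
  rw [Chain, Fin.forall_fin_succ]
  simp only [Fin.cons_zero, Fin.cons_succ, SB_cons_val_zero, SB_cons_val_succ]
  rfl

theorem lenAt_eq_zero_iff {N : Submodule R M} : lenAt q N = 0 ↔ q ∉ Module.support R (M ⧸ N) := by
  rw [lenAt, Module.length_eq_zero_iff, Module.notMem_support_iff]

theorem lenAt_eq_add_one {N : Submodule R M} {x : M} (h : ∀ a : R, a • x ∈ N ↔ a ∈ q.asIdeal) :
    lenAt q N = lenAt q (N ⊔ Submodule.span R {x}) + 1 := by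
  set S := q.asIdeal.primeCompl
  let i : (R ⧸ q.asIdeal) →ₗ[R] M ⧸ N :=
    Submodule.liftQ _ (LinearMap.toSpanSingleton R _ (N.mkQ x)) fun a ha => by
      rw [LinearMap.mem_ker, LinearMap.toSpanSingleton_apply, ← map_smul]
      exact (Submodule.Quotient.mk_eq_zero N).2 ((h a).2 ha)
  let p := Submodule.factor (le_sup_left : N ≤ N ⊔ Submodule.span R {x})
  have hi : Function.Injective i := by
    rw [← LinearMap.ker_eq_bot]
    refine Submodule.ker_liftQ_eq_bot _ _ _ fun a ha => ?_
    rw [LinearMap.mem_ker, LinearMap.toSpanSingleton_apply, ← map_smul] at ha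
    exact (h a).1 ((Submodule.Quotient.mk_eq_zero N).1 ha)
  have hex : Function.Exact i p := by
    rw [LinearMap.exact_iff, Submodule.range_liftQ, LinearMap.range_toSpanSingleton]
    simp only [p, Submodule.factor, Submodule.mapQ]
    rw [Submodule.ker_liftQ, LinearMap.ker_comp, Submodule.ker_mkQ, Submodule.comap_id,
      Submodule.map_sup, Submodule.map_span, Set.image_singleton, Submodule.mkQ_map_self, bot_sup_eq]
  have h1 : Module.length (Localization.AtPrime q.asIdeal) (LocalizedModule S (R ⧸ q.asIdeal)) = 1 := by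
    rw [Module.length_eq_one_iff, isSimpleModule_iff_toSpanSingleton_surjective]
    refine ⟨?_, fun z hz w => ?_⟩
    · have : q ∈ Module.support R (R ⧸ q.asIdeal) := by
        rw [Module.mem_support_iff_exists_annihilator]
        refine ⟨Ideal.Quotient.mk _ 1, ?_⟩
        intro a ha
        rw [Submodule.mem_annihilator_span_singleton, Algebra.smul_def, map_one, mul_one] at ha
        exact Ideal.Quotient.eq_zero_iff_mem.1 ha
      exact Module.mem_support_iff.1 this
    induction z using LocalizedModule.induction_on with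
    | h z s =>
      induction w using LocalizedModule.induction_on with
      | h w s' =>
        obtain ⟨r, rfl⟩ := Ideal.Quotient.mk_surjective z
        obtain ⟨r', rfl⟩ := Ideal.Quotient.mk_surjective w
        have hr : r ∈ S := fun hr => hz (by
          rw [Ideal.Quotient.eq_zero_iff_mem.2 hr, LocalizedModule.zero_mk])
        refine ⟨Localization.mk (r' * s) ⟨r * s', S.mul_mem hr s'.2⟩, ?_⟩
        rw [LinearMap.toSpanSingleton_apply, LocalizedModule.mk_smul_mk, LocalizedModule.mk_eq]
        refine ⟨1, ?_⟩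
        simp only [one_smul, Submonoid.smul_def, Submonoid.coe_mul, Algebra.smul_def, Ideal.Quotient.algebraMap_eq,
          ← map_mul]
        congr 1
        ring
  have := Module.length_eq_add_of_exact (LocalizedModule.map S i) (LocalizedModule.map S p)
    (LocalizedModule.map_injective S i hi) (LocalizedModule.map_surjective S p (Submodule.factor_surjective _))
    (LocalizedModule.map_exact S i p hex)
  rw [lenAt, lenAt, this, h1, add_comm]

theorem lenAt_eq_of_chain : ∀ {l : ℕ} {N : Submodule R M} (x : Fin l → M), Chain q N x →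
    lenAt q N = lenAt q (SB N x l) + l := by
  intro l
  induction l with
  | zero => intro N x _; rw [SB_zero, Nat.cast_zero, add_zero]
  | succ l ih =>
    intro N x hx
    obtain ⟨y, t, rfl⟩ : ∃ y t, x = Fin.cons y t := ⟨x 0, Fin.tail x, (Fin.cons_self_tail x).symm⟩
    obtain ⟨hy, ht⟩ := (chain_cons_iff y t).1 hx
    rw [lenAt_eq_add_one hy, ih t ht, SB_top_cons, Nat.cast_succ, add_assoc]

theorem exists_chain [IsNoetherianRing R] [Module.Finite R M]
    (hq : Minimal (fun p : PrimeSpectrum R => p ∈ Module.support R M) q) (N : Submodule R M) :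
    ∃ (l : ℕ) (x : Fin l → M), Chain q N x ∧ q ∉ Module.support R (M ⧸ SB N x l) := by
  induction N using WellFoundedGT.induction with
  | ind N ih =>
    by_cases hN : q ∈ Module.support R (M ⧸ N)
    swap
    · exact ⟨0, Fin.elim0, fun i => i.elim0, by rwa [SB_zero]⟩
    have hmin : q.asIdeal ∈ (Module.annihilator R (M ⧸ N)).minimalPrimes := by
      rw [Module.support_eq_zeroLocus, PrimeSpectrum.mem_zeroLocus] at hN
      refine ⟨⟨q.2, hN⟩, fun p ⟨hp, hpN⟩ hle => ?_⟩
      have hmem : (⟨p, hp⟩ : PrimeSpectrum R) ∈ Module.support R M :=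
        Module.support_subset_of_surjective N.mkQ N.mkQ_surjective
          (by rw [Module.support_eq_zeroLocus, PrimeSpectrum.mem_zeroLocus]; exact hpN)
      exact hq.2 hmem hle
    obtain ⟨-, y, hy⟩ := isAssociatedPrime_iff.1 (Module.associatedPrimes.minimalPrimes_annihilator_subset_associatedPrimes R _ hmin)
    obtain ⟨x, rfl⟩ := N.mkQ_surjective y
    have hx : ∀ a : R, a • x ∈ N ↔ a ∈ q.asIdeal := by
      intro a
      rw [show q.asIdeal = _ from hy, Submodule.mem_colon_singleton, Submodule.mem_bot, ← map_smul]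
      exact (Submodule.Quotient.mk_eq_zero N).symm
    have hlt : N < N ⊔ Submodule.span R {x} := by
      refine lt_of_le_of_ne le_sup_left fun h => q.2.ne_top ((Ideal.eq_top_iff_one _).2 ((hx 1).1 ?_))
      rw [one_smul, h]
      exact Submodule.mem_sup_right (Submodule.mem_span_singleton_self x)
    obtain ⟨l, t, ht, hs⟩ := ih _ hlt
    exact ⟨l + 1, Fin.cons x t, (chain_cons_iff x t).2 ⟨hx, ht⟩, by rwa [SB_top_cons]⟩

/-- A cyclic step has quotient `R/q` exactly when the annihilator of the generator is `q`. -/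
theorem step_iff {N P : Submodule R M} {x : M} (hP : P = N ⊔ Submodule.span R {x}) :
    Nonempty ((↥P ⧸ N.submoduleOf P) ≃ₗ[R] R ⧸ q.asIdeal) ↔ ∀ a : R, a • x ∈ N ↔ a ∈ q.asIdeal := by
  subst hP
  let ψ := LinearMap.toSpanSingleton R _
    (Submodule.mkQ (N.submoduleOf (N ⊔ Submodule.span R {x}))
      ⟨x, Submodule.mem_sup_right (Submodule.mem_span_singleton_self x)⟩)
  have hker : ∀ a, a ∈ LinearMap.ker ψ ↔ a • x ∈ N := fun a => by
    rw [LinearMap.mem_ker, LinearMap.toSpanSingleton_apply, ← map_smul, Submodule.mkQ_apply,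
      Submodule.Quotient.mk_eq_zero]
    rfl
  have hψ : Function.Surjective ψ := by
    intro z
    obtain ⟨⟨y, hy⟩, rfl⟩ := Submodule.mkQ_surjective _ z
    obtain ⟨a, ha, w, hw, rfl⟩ := Submodule.mem_sup.1 hy
    obtain ⟨b, rfl⟩ := Submodule.mem_span_singleton.1 hw
    refine ⟨b, ?_⟩
    rw [LinearMap.toSpanSingleton_apply, ← map_smul, Submodule.mkQ_apply, Submodule.mkQ_apply, Submodule.Quotient.eq]
    show b • x - (a + b • x) ∈ N
    rw [show b • x - (a + b • x) = -a by abel]
    exact N.neg_mem ha
  constructor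
  · rintro ⟨e⟩ a
    rw [← hker, ← Ideal.annihilator_quotient (I := q.asIdeal), ← e.annihilator_eq, Module.mem_annihilator]
    refine ⟨fun h z => ?_, fun h => ?_⟩
    · obtain ⟨b, rfl⟩ := hψ z
      rw [← map_smul]
      rw [LinearMap.mem_ker] at h
      rw [show a • b = b • a from mul_comm a b, map_smul, h, smul_zero]
    · have := h (ψ 1)
      rwa [← map_smul, smul_eq_mul, mul_one] at this
  · intro h
    exact ⟨(LinearMap.quotKerEquivOfSurjective ψ hψ).symm.trans
      (Submodule.quotEquivOfEq _ _ (Submodule.ext fun a => (hker a).trans (h a)))⟩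

theorem spanBefore_succ {l : ℕ} (x : Fin l → M) (i : Fin l) :
    _root_.CycDet.spanBefore R M x ((i : ℕ) + 1) =
      _root_.CycDet.spanBefore R M x i ⊔ Submodule.span R {x i} := by
  rw [_root_.CycDet.spanBefore, _root_.CycDet.spanBefore, ← Submodule.span_union, Set.union_singleton,
    ← Set.image_insert_eq]
  congr 2
  ext j
  simp only [Set.mem_ofPred_eq, Set.mem_insert_iff, Fin.ext_iff]
  omega

theorem chain_bot_iff {l : ℕ} (x : Fin l → M) :
    Chain q (⊥ : Submodule R M) x ↔ ∀ i : Fin l,
      Nonempty ((↥(_root_.CycDet.spanBefore R M x (i + 1)) ⧸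
        (_root_.CycDet.spanBefore R M x i).submoduleOf (_root_.CycDet.spanBefore R M x (i + 1))) ≃ₗ[R] R ⧸ q.asIdeal) := by
  refine forall_congr' fun i => ?_
  rw [step_iff (spanBefore_succ x i), SB_bot]

end Groth.Agent.Lib.CycDet.GoodSeq
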