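import Groth.Agent.Lib.CycDet.Det
import Groth.Agent.Lib.CycDet.GoodSeq
import Groth.Agent.Lib.Cyc.Retr.Idx
import Groth.Agent.Lib.Tame.Key.Mult
import Groth.Agent.Lib.Cyc.Ord

/-!
# The index of a lattice along an admissible tuple

For a module `V` of finite length over `R_q` with `dim R/q = 1`, a lattice `Λ` and an admissible tuple `e`,
the sum of the indices of the graded pieces of `Λ` against the lines `R e_i` varies along the admissible
relations exactly as the order of the symbol.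
-/

set_option autoImplicit false
set_option linter.unusedSectionVars false

universe u

namespace Groth.Agent.Lib.CycDet.Omega

open IsLocalRing Groth.Agent.Lib.CycDet Groth.Agent.Lib.Cyc.Retr.Idx Groth.Agent.Lib.Tame.Key
open Groth.Agent.Lib

variable {R : Type u} [CommRing R] [IsNoetherianRing R] [IsLocalRing R] {q : PrimeSpectrum R}
  {V : Type u} [AddCommGroup V] [Module (Localization.AtPrime q.asIdeal) V] [Module R V]
  [IsScalarTower R (Localization.AtPrime q.asIdeal) V]

local notation "Rq" => Localization.AtPrime q.asIdeal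

theorem isUnit_map_iff {r : R} : IsUnit (algebraMap R Rq r) ↔ r ∉ q.asIdeal :=
  IsLocalization.AtPrime.isUnit_to_map_iff Rq q.asIdeal r

theorem map_mem_maximal_iff {r : R} : algebraMap R Rq r ∈ maximalIdeal Rq ↔ r ∈ q.asIdeal :=
  IsLocalization.AtPrime.to_map_mem_maximal_iff Rq q.asIdeal r

theorem exists_frac (s : Rq) :
    ∃ t ∉ q.asIdeal, ∃ a : R, ∀ v : V, t • s • v = a • v := by
  obtain ⟨⟨a, t⟩, h⟩ := IsLocalization.surj q.asIdeal.primeCompl s
  refine ⟨t, t.2, a, fun v => ?_⟩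
  rw [← algebraMap_smul Rq (t : R) (s • v), smul_smul, mul_comm, h, algebraMap_smul]

theorem smul_mem_iff {F : Submodule Rq V} {y : V} (hy : Soc F y) (hyF : y ∉ F) {r : R} :
    r • y ∈ F ↔ r ∈ q.asIdeal := by
  rw [← algebraMap_smul Rq r y]
  refine ⟨fun h => Classical.not_not.1 fun hr => hyF ?_, fun h => hy _ (map_mem_maximal_iff.2 h)⟩
  have := F.smul_mem (↑((isUnit_map_iff.2 hr).unit⁻¹) : Rq) h
  rwa [smul_smul, IsUnit.val_inv_mul, one_smul] at this

/-- Elements of `R` in `q` act nilpotently, by a fixed exponent. -/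
def Nil (R : Type u) [CommRing R] (q : PrimeSpectrum R) (V : Type u) [AddCommGroup V] [Module R V] : Prop :=
  ∀ r ∈ q.asIdeal, ∀ v : V, ∃ n : ℕ, r ^ n • v = 0

variable (hdim : ∀ Q : Ideal R, Q.IsPrime → q.asIdeal < Q → Q.IsMaximal) (hV : Nil R q V)

section Comm
include hdim hV

theorem qlen_lt_top {A B : Submodule R V} (F : Submodule Rq V) (A' : Submodule R V) (hA' : A'.FG)
    (hA : A = A' ⊔ F.restrictScalars R) (hB : F.restrictScalars R ≤ B)
    (h : ∀ v ∈ A, ∃ t ∉ q.asIdeal, t • v ∈ B) : qlen A B < ⊤ := by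
  have : Module.Finite R A' := Module.Finite.iff_fg.2 hA'
  let g : A' →ₗ[R] ↥A ⧸ B.comap A.subtype :=
    (B.comap A.subtype).mkQ ∘ₗ Submodule.inclusion (hA ▸ le_sup_left)
  have hg : Function.Surjective g := by
    intro z
    obtain ⟨⟨v, hv⟩, rfl⟩ := Submodule.mkQ_surjective _ z
    obtain ⟨a, ha, f, hf, rfl⟩ := Submodule.mem_sup.1 (hA ▸ hv : v ∈ A' ⊔ F.restrictScalars R)
    refine ⟨⟨a, ha⟩, (Submodule.Quotient.eq _).2 ?_⟩
    show a - (a + f) ∈ B
    rw [show a - (a + f) = -f by abel]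
    exact B.neg_mem (hB hf)
  have : Module.Finite R (↥A ⧸ B.comap A.subtype) := Module.Finite.of_surjective g hg
  refine Mult.length_lt_top_of_off (A := R) (B := R) fun Q hQ _ z => ?_
  obtain ⟨⟨v, hv⟩, rfl⟩ := Submodule.mkQ_surjective _ z
  by_cases hle : q.asIdeal ≤ Q.asIdeal
  · have : q.asIdeal = Q.asIdeal := by
      by_contra hne
      exact hQ (hdim _ Q.2 (lt_of_le_of_ne hle hne))
    obtain ⟨t, ht, htv⟩ := h v hv
    exact ⟨t, this ▸ ht, (Submodule.Quotient.mk_eq_zero _).2 htv⟩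
  · obtain ⟨r, hr, hrQ⟩ := SetLike.not_le_iff_exists.1 hle
    obtain ⟨n, hn⟩ := hV r hr v
    refine ⟨r ^ n, fun hh => hrQ (Q.2.mem_of_pow_mem n hh), (Submodule.Quotient.mk_eq_zero _).2 ?_⟩
    show r ^ n • v ∈ B
    rw [hn]
    exact B.zero_mem

end Comm

/-- A submodule `G` of multiples of the lattice in a layer. -/
def lay (Λ : Submodule R V) (F G : Submodule Rq V) : Submodule R V :=
  (Λ ⊓ G.restrictScalars R) ⊔ F.restrictScalars R

/-- The lattice generated by `x` above `F`. -/
def line (F : Submodule Rq V) (x : V) : Submodule R V := Submodule.span R {x} ⊔ F.restrictScalars R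

theorem line_congr {F : Submodule Rq V} {x y : V} (h : x - y ∈ F) : line F x = line F y := by
  have key : ∀ {x y : V}, x - y ∈ F → line F x ≤ line F y := fun {x y} h => by
    refine sup_le ((Submodule.span_singleton_le_iff_mem _ _).2 ?_) le_sup_right
    rw [show x = y + (x - y) by abel]
    exact add_mem (Submodule.mem_sup_left (Submodule.mem_span_singleton_self y)) (Submodule.mem_sup_right h)
  exact le_antisymm (key h) (key (by rw [← neg_sub]; exact F.neg_mem h))

theorem self_mem_line (F : Submodule Rq V) (x : V) : x ∈ line (R := R) F x :=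
  Submodule.mem_sup_left (Submodule.mem_span_singleton_self x)

theorem line_le (F : Submodule Rq V) (x : V) :
    line F x ≤ (F ⊔ Submodule.span Rq {x}).restrictScalars R :=
  sup_le ((Submodule.span_singleton_le_iff_mem _ _).2
      (Submodule.mem_sup_right (Submodule.mem_span_singleton_self x) : x ∈ F ⊔ Submodule.span Rq {x}))
    fun v hv => (Submodule.mem_sup_left hv : v ∈ F ⊔ Submodule.span Rq {x})

theorem exists_smul_mem_line {F : Submodule Rq V} {x v : V} (hv : v ∈ F ⊔ Submodule.span Rq {x}) :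
    ∃ t ∉ q.asIdeal, t • v ∈ line (R := R) F x := by
  obtain ⟨f, hf, w, hw, rfl⟩ := Submodule.mem_sup.1 hv
  obtain ⟨s, rfl⟩ := Submodule.mem_span_singleton.1 hw
  obtain ⟨t, ht, a, ha⟩ := exists_frac (V := V) s
  refine ⟨t, ht, ?_⟩
  rw [smul_add, ha]
  exact add_mem (Submodule.mem_sup_right ((F.restrictScalars R).smul_mem t hf))
    (Submodule.mem_sup_left (Submodule.smul_mem _ _ (Submodule.mem_span_singleton_self x)))

variable (Λ : Submodule R V)

/-- The lattice hypothesis. -/
def IsLat : Prop := Λ.FG ∧ ∀ v : V, ∃ t ∉ q.asIdeal, t • v ∈ Λ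

variable {Λ} (hΛ : IsLat (q := q) Λ)
include hdim hV hΛ

theorem comm_lay {F G : Submodule Rq V} (hFG : F ≤ G) (L : Submodule R V) (hL : L.FG)
    (hLG : L ≤ G.restrictScalars R) (h : ∀ v ∈ G, ∃ t ∉ q.asIdeal, t • v ∈ L ⊔ F.restrictScalars R) :
    Comm (lay Λ F G) (L ⊔ F.restrictScalars R) := by
  refine ⟨qlen_lt_top hdim hV F _ (Submodule.FG.of_le hΛ.1 inf_le_left) rfl le_sup_right ?_,
    qlen_lt_top hdim hV F L hL rfl le_sup_right ?_⟩
  · intro v hv
    exact h v ((sup_le inf_le_right (fun w hw => hFG hw) : lay Λ F G ≤ G.restrictScalars R) hv)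
  · intro v hv
    obtain ⟨t, ht, htv⟩ := hΛ.2 v
    have hvG : v ∈ G.restrictScalars R := (sup_le hLG (fun w hw => hFG hw)) hv
    exact ⟨t, ht, Submodule.mem_sup_left ⟨htv, (G.restrictScalars R).smul_mem t hvG⟩⟩

theorem comm_line (F : Submodule Rq V) (x : V) :
    Comm (lay Λ F (F ⊔ Submodule.span Rq {x})) (line F x) :=
  comm_lay hdim hV hΛ le_sup_left _ (Submodule.fg_span_singleton x) (le_sup_left.trans (line_le F x))
    fun _ hv => exists_smul_mem_line hv

omit hdim hV hΛ

/-- The index in the layer of `x` above `F`. -/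
noncomputable def step (Λ : Submodule R V) (F : Submodule Rq V) (x : V) : ℤ :=
  idx (lay Λ F (F ⊔ Submodule.span Rq {x})) (line F x)

/-- The total index along a tuple. -/
noncomputable def omega (Λ : Submodule R V) (N : Submodule Rq V) {l : ℕ} (e : Fin l → V) : ℤ :=
  ∑ i : Fin l, step Λ (SB N e i) (e i)

theorem omega_cons (Λ : Submodule R V) (N : Submodule Rq V) {l : ℕ} (x : V) (t : Fin l → V) :
    omega Λ N (Fin.cons x t : Fin (l + 1) → V) = step Λ N x + omega Λ (N ⊔ Submodule.span Rq {x}) t := by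
  rw [omega, Fin.sum_univ_succ, omega]
  simp only [Fin.cons_zero, Fin.cons_succ, SB_cons_val_zero, SB_cons_val_succ]

theorem len_eq_of_good : ∀ {n : ℕ} {N : Submodule Rq V} (e : Fin n → V),
    AdmR N e → Good N e → len N = len (SB N e n) + n := by
  intro n
  induction n with
  | zero => intro N e _ _; rw [SB_zero, Nat.cast_zero, add_zero]
  | succ n ih =>
    intro N e ha hg
    obtain ⟨x, t, rfl⟩ : ∃ x t, e = Fin.cons x t := ⟨e 0, Fin.tail e, (Fin.cons_self_tail e).symm⟩
    obtain ⟨hs, hta⟩ := (admR_cons_iff x t).1 ha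
    obtain ⟨hx, htg⟩ := (good_cons_iff x t).1 hg
    rw [len_eq_len_add_one hs hx, ih t hta htg, SB_top_cons, Nat.cast_succ, add_assoc]

section Ord

variable [Ring.KrullDimLE 1 (R ⧸ q.asIdeal)]

/-- The order on the residue field. -/
noncomputable abbrev ordq (q : PrimeSpectrum R) (f : q.asIdeal.ResidueField) : ℤ :=
  CycAlg.ordFrac (R ⧸ q.asIdeal) q.asIdeal.ResidueField f

theorem idx_line_smul {F : Submodule Rq V} {y : V} (hy : Soc F y) (hyF : y ∉ F) {a : R}
    (ha : a ∉ q.asIdeal) :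
    Comm (line F y) (line F (a • y)) ∧
      idx (line F y) (line F (a • y)) = ordq q (algebraMap R q.asIdeal.ResidueField a) := by
  have hle : line F (a • y) ≤ line F y :=
    sup_le ((Submodule.span_singleton_le_iff_mem _ _).2 (Submodule.smul_mem _ a (self_mem_line F y))) le_sup_right
  let g : (R ⧸ q.asIdeal) →ₗ[R] ↥(line F y) ⧸ (line F (a • y)).comap (line F y).subtype :=
    Submodule.liftQ _ (LinearMap.toSpanSingleton R _ (Submodule.Quotient.mk ⟨y, self_mem_line F y⟩)) fun r hr => by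
      rw [LinearMap.mem_ker, LinearMap.toSpanSingleton_apply, ← Submodule.Quotient.mk_smul,
        Submodule.Quotient.mk_eq_zero]
      exact Submodule.mem_sup_right ((smul_mem_iff hy hyF).2 hr)
  have hg : ∀ r, g (Ideal.Quotient.mk _ r) =
      Submodule.Quotient.mk ⟨r • y, Submodule.smul_mem _ r (self_mem_line F y)⟩ := fun r => rfl
  have hgs : Function.Surjective g := by
    intro z
    obtain ⟨⟨v, hv⟩, rfl⟩ := Submodule.Quotient.mk_surjective _ z
    obtain ⟨w, hw, f, hf, rfl⟩ := Submodule.mem_sup.1 hv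
    obtain ⟨r, rfl⟩ := Submodule.mem_span_singleton.1 hw
    refine ⟨Ideal.Quotient.mk _ r, ?_⟩
    rw [hg, Submodule.Quotient.eq]
    show r • y - (r • y + f) ∈ line F (a • y)
    rw [show r • y - (r • y + f) = -f by abel]
    exact Submodule.neg_mem _ (Submodule.mem_sup_right hf)
  have hker : LinearMap.ker g =
      (Ideal.span {Ideal.Quotient.mk q.asIdeal a}).restrictScalars R := by
    ext z
    obtain ⟨r, rfl⟩ := Ideal.Quotient.mk_surjective z
    rw [LinearMap.mem_ker, Submodule.restrictScalars_mem, Ideal.mem_span_singleton']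
    rw [hg, Submodule.Quotient.mk_eq_zero]
    show r • y ∈ line F (a • y) ↔ _
    constructor
    · intro h
      obtain ⟨w, hw, f, hf, hwf⟩ := Submodule.mem_sup.1 h
      obtain ⟨b, rfl⟩ := Submodule.mem_span_singleton.1 hw
      refine ⟨Ideal.Quotient.mk _ b, ?_⟩
      rw [← map_mul, eq_comm, Ideal.Quotient.eq, ← smul_mem_iff hy hyF, sub_smul, ← hwf, mul_smul]
      simpa using hf
    · rintro ⟨c, hc⟩
      obtain ⟨b, rfl⟩ := Ideal.Quotient.mk_surjective c
      rw [← map_mul, eq_comm, Ideal.Quotient.eq] at hc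
      rw [show r • y = b • a • y + (r - b * a) • y by rw [sub_smul, mul_smul]; abel]
      exact add_mem (Submodule.smul_mem _ b (self_mem_line F _))
        (Submodule.mem_sup_right ((smul_mem_iff hy hyF).2 hc))
  have hlen : qlen (line F y) (line F (a • y)) = Ring.ord (R ⧸ q.asIdeal) (Ideal.Quotient.mk _ a) := by
    rw [qlen, ← ((Submodule.quotEquivOfEq _ _ hker.symm).trans (g.quotKerEquivOfSurjective hgs)).length_eq,
      Submodule.Quotient.restrictScalarsEquiv R _ |>.length_eq]
    exact Module.length_eq_of_surjective (R := R ⧸ q.asIdeal) (S := R) Ideal.Quotient.mk_surjective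
  have ha' : Ideal.Quotient.mk q.asIdeal a ∈ nonZeroDivisors (R ⧸ q.asIdeal) :=
    mem_nonZeroDivisors_of_ne_zero fun h => ha (Ideal.Quotient.eq_zero_iff_mem.1 h)
  refine ⟨comm_of_le hle (by rw [hlen]; exact lt_top_iff_ne_top.2 (Ring.ord_ne_top ha')), ?_⟩
  rw [idx_of_le hle, hlen, ordq,
    IsScalarTower.algebraMap_apply R (R ⧸ q.asIdeal) q.asIdeal.ResidueField, Ideal.Quotient.algebraMap_eq,
    Cyc.Ord.ordFrac_algebraMap _ ha']

theorem residue_map (a : R) :
    residue Rq (algebraMap R Rq a) = algebraMap R q.asIdeal.ResidueField a := rfl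

theorem idx_line_of_unit {F : Submodule Rq V} {x y : V} (hy : Soc F y) (hyF : y ∉ F) (u : Rqˣ)
    (h : x - (u : Rq) • y ∈ F) :
    Comm (line (R := R) F y) (line F x) ∧ idx (line (R := R) F y) (line F x) = ordq q (residue Rq (u : Rq)) := by
  obtain ⟨⟨a, t⟩, hu⟩ := IsLocalization.surj q.asIdeal.primeCompl (u : Rq)
  dsimp only at hu
  have ht : IsUnit (algebraMap R Rq (t : R)) := isUnit_map_iff.2 t.2
  have ha : a ∉ q.asIdeal := isUnit_map_iff.1 (hu ▸ u.isUnit.mul ht)
  have hxF : x ∉ F := fun hx => hyF (by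
    have := F.smul_mem (↑u⁻¹ : Rq) (F.sub_mem hx h)
    rwa [sub_sub_cancel, smul_smul, Units.inv_mul, one_smul] at this)
  have hxs : Soc F x := fun r hr => by
    rw [← sub_add_cancel x ((u : Rq) • y), smul_add, smul_comm]
    exact F.add_mem (F.smul_mem r h) (F.smul_mem _ (hy r hr))
  have he : line (R := R) F ((t : R) • x) = line F (a • y) := line_congr (by
    have := F.smul_mem (algebraMap R Rq (t : R)) h
    rwa [smul_sub, smul_smul, mul_comm, hu, algebraMap_smul, algebraMap_smul] at this)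
  obtain ⟨c1, e1⟩ := idx_line_smul (q := q) hy hyF ha
  obtain ⟨c2, e2⟩ := idx_line_smul (q := q) hxs hxF t.2
  rw [he] at c2 e2
  refine ⟨c1.trans c2.symm, ?_⟩
  rw [← idx_trans c1 c2.symm, e1, idx_symm (line F x), e2]
  have hres : residue Rq (u : Rq) * algebraMap R q.asIdeal.ResidueField t =
      algebraMap R q.asIdeal.ResidueField a := by
    rw [← residue_map, ← residue_map, ← map_mul, hu]
  have hne : ∀ {r : R}, r ∉ q.asIdeal → algebraMap R q.asIdeal.ResidueField r ≠ 0 := fun hr h => hr (by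
    rwa [Ideal.algebraMap_residueField_eq_zero] at h)
  rw [← hres, ordq, Cyc.Ord.ordFrac_mul _ _ _ ((residue_ne_zero_iff_isUnit _).2 u.isUnit) (hne t.2)]
  simp [ordq]

theorem ordq_neg (f : q.asIdeal.ResidueField) : ordq q (-f) = ordq q f := by
  rcases eq_or_ne f 0 with rfl | hf
  · rw [neg_zero]
  have h1 : (-1 : q.asIdeal.ResidueField) ≠ 0 := neg_ne_zero.2 one_ne_zero
  have h := Cyc.Ord.ordFrac_mul (R ⧸ q.asIdeal) _ _ h1 h1
  rw [neg_one_mul, neg_neg, Cyc.Ord.ordFrac_one] at h
  rw [← neg_one_mul, ordq, Cyc.Ord.ordFrac_mul _ _ _ h1 hf]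
  show _ = CycAlg.ordFrac _ _ f
  omega

theorem ordq_mul {f g : ResidueField Rq} (hf : f ≠ 0) (hg : g ≠ 0) :
    ordq q (f * g) = ordq q f + ordq q g :=
  Cyc.Ord.ordFrac_mul (R ⧸ q.asIdeal) f g hf hg

include hdim hV hΛ

theorem step_of_unit {F : Submodule Rq V} {x y : V} (hy : Soc F y) (hyF : y ∉ F) (u : Rqˣ)
    (h : x - (u : Rq) • y ∈ F) : step Λ F x = step Λ F y + ordq q (residue Rq (u : Rq)) := by
  obtain ⟨c, e⟩ := idx_line_of_unit (R := R) hy hyF u h
  rw [← e, step, step, sup_span_eq_of_sub_mem u h, idx_trans (comm_line hdim hV hΛ F y) c]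

end Ord

include hdim hV hΛ

theorem step_swap {F : Submodule Rq V} {x y : V} (hy : Soc F y)
    (hyx : y ∉ F ⊔ Submodule.span Rq {x}) :
    idx (lay Λ F (F ⊔ Submodule.span Rq {x} ⊔ Submodule.span Rq {y}))
        (Submodule.span R {x} ⊔ Submodule.span R {y} ⊔ F.restrictScalars R) =
      step Λ F x + step Λ (F ⊔ Submodule.span Rq {x}) y := by
  set G := F ⊔ Submodule.span Rq {x}
  set P := G ⊔ Submodule.span Rq {y}
  set L := Submodule.span R {x} ⊔ Submodule.span R {y}
  have hxG : x ∈ G := Submodule.mem_sup_right (Submodule.mem_span_singleton_self x)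
  have hFG : F ≤ G := le_sup_left
  have hc : Comm (lay Λ F P) (L ⊔ F.restrictScalars R) := by
    refine comm_lay hdim hV hΛ (le_sup_left.trans le_sup_left) L
      (Submodule.FG.sup (Submodule.fg_span_singleton x) (Submodule.fg_span_singleton y))
      (sup_le ((Submodule.span_singleton_le_iff_mem _ _).2 (Submodule.mem_sup_left hxG : x ∈ P))
        ((Submodule.span_singleton_le_iff_mem _ _).2
          (Submodule.mem_sup_right (Submodule.mem_span_singleton_self y) : y ∈ P))) ?_
    intro v hv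
    obtain ⟨t, ht, htv⟩ := exists_smul_mem_line (R := R) hv
    obtain ⟨w, hw, g, hg, hwg⟩ := Submodule.mem_sup.1 htv
    obtain ⟨s, hs, hsg⟩ := exists_smul_mem_line (R := R) (hg : g ∈ G)
    refine ⟨s * t, q.2.mul_notMem hs ht, ?_⟩
    rw [mul_smul, ← hwg, smul_add]
    refine add_mem (Submodule.mem_sup_left (Submodule.mem_sup_right (Submodule.smul_mem _ s hw))) ?_
    exact (sup_le_sup_right le_sup_left _ : line F x ≤ L ⊔ F.restrictScalars R) hsg
  have hFG' : F.restrictScalars R ≤ G.restrictScalars R := fun v hv => hFG hv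
  have hGP : G.restrictScalars R ≤ P.restrictScalars R := fun v hv =>
    (Submodule.mem_sup_left hv : v ∈ G ⊔ Submodule.span Rq {y})
  rw [idx_split hc (G.restrictScalars R), step, step]
  congr 2
  · rw [lay, lay, sup_comm (Λ ⊓ P.restrictScalars R), sup_inf_assoc_of_le _ hFG', inf_assoc,
      inf_eq_right.2 hGP, sup_comm]
  · refine le_antisymm ?_ (le_inf (sup_le_sup_right le_sup_left _) (line_le F x))
    rintro v ⟨hv, hvG⟩
    obtain ⟨w, hw, f, hf, rfl⟩ := Submodule.mem_sup.1 hv
    obtain ⟨w₁, hw₁, w₂, hw₂, rfl⟩ := Submodule.mem_sup.1 hw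
    obtain ⟨a, rfl⟩ := Submodule.mem_span_singleton.1 hw₁
    obtain ⟨b, rfl⟩ := Submodule.mem_span_singleton.1 hw₂
    have hb : b • y ∈ G := by
      have h1 : a • x + b • y + f ∈ G := hvG
      have h2 := G.sub_mem (G.sub_mem h1 (hFG hf)) ((G.restrictScalars R).smul_mem a hxG)
      rwa [add_sub_cancel_right, add_sub_cancel_left] at h2
    rw [smul_mem_iff (hy.mono hFG) hyx] at hb
    refine add_mem (add_mem (Submodule.mem_sup_left (Submodule.smul_mem _ a (Submodule.mem_span_singleton_self x)))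
      (Submodule.mem_sup_right ?_)) (Submodule.mem_sup_right hf)
    show b • y ∈ F
    rw [← algebraMap_smul Rq b y]
    exact hy _ (map_mem_maximal_iff.2 hb)
  · rw [lay, lay, sup_assoc, sup_eq_right.2 hFG']
  · rw [line, sup_assoc, sup_eq_right.2 hFG', sup_assoc, sup_eq_right]
    exact ((Submodule.span_singleton_le_iff_mem _ _).2 hxG : Submodule.span R {x} ≤ G.restrictScalars R).trans le_sup_right

variable [Ring.KrullDimLE 1 (R ⧸ q.asIdeal)]

/-- Along the admissible relations the index varies as the order of the symbol. -/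
theorem omega_sub : ∀ {n : ℕ} {N : Submodule Rq V} (ψ : (Fin n → V) → ResidueField Rq), IsDetFun N n ψ →
    len N = n → ∀ e₀ e, AdmR N e₀ → Good N e₀ → AdmR N e → Good N e →
    omega Λ N e - ordq q (ψ e) = omega Λ N e₀ - ordq q (ψ e₀) := by
  intro n
  induction n with
  | zero => intro N ψ _ _ e₀ e _ _ _ _; rw [Subsingleton.elim e e₀]
  | succ n ih =>
    intro N ψ hψ hN e₀ e ha₀ hg₀ ha hg
    obtain ⟨x, t, rfl⟩ : ∃ x t, e = Fin.cons x t := ⟨e 0, Fin.tail e, (Fin.cons_self_tail e).symm⟩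
    obtain ⟨y, s, rfl⟩ : ∃ y s, e₀ = Fin.cons y s := ⟨e₀ 0, Fin.tail e₀, (Fin.cons_self_tail e₀).symm⟩
    obtain ⟨hx, hta⟩ := (admR_cons_iff x t).1 ha
    obtain ⟨hxN, htg⟩ := (good_cons_iff x t).1 hg
    obtain ⟨hy, hsa⟩ := (admR_cons_iff y s).1 ha₀
    obtain ⟨hyN, hsg⟩ := (good_cons_iff y s).1 hg₀
    have same : ∀ {z : V}, Soc N z → z ∉ N → ∀ t₀ t, AdmR (N ⊔ Submodule.span Rq {z}) t₀ →
        Good (N ⊔ Submodule.span Rq {z}) t₀ → AdmR (N ⊔ Submodule.span Rq {z}) t →
        Good (N ⊔ Submodule.span Rq {z}) t →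
        omega Λ N (Fin.cons z t : Fin (n + 1) → V) - ordq q (ψ (Fin.cons z t)) =
          omega Λ N (Fin.cons z t₀ : Fin (n + 1) → V) - ordq q (ψ (Fin.cons z t₀)) := by
      intro z hz hzN t₀ t h1 h2 h3 h4
      have := ih _ ⟨hψ.1.cons hz, fun t h h' =>
        hψ.2 _ ((admR_cons_iff z t).2 ⟨hz, h⟩) ((good_cons_iff z t).2 ⟨hzN, h'⟩)⟩ (len_sup_eq hz hzN hN)
        t₀ t h1 h2 h3 h4
      rw [omega_cons, omega_cons]
      linear_combination this
    by_cases hxy : x ∈ N ⊔ Submodule.span Rq {y}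
    · obtain ⟨u, hu⟩ := exists_unit_sub_smul_mem hy hxN hxy
      have hsp := sup_span_eq_of_sub_mem u hu
      have h1 := same hy hyN s t hsa hsg (hsp ▸ hta) (hsp ▸ htg)
      have h2 : ψ (Fin.cons y t) ≠ 0 :=
        hψ.2 _ ((admR_cons_iff y t).2 ⟨hy, hsp ▸ hta⟩) ((good_cons_iff y t).2 ⟨hyN, hsp ▸ htg⟩)
      rw [omega_cons] at h1
      rw [omega_cons, hψ.1.head_smul t u hx hy hu hta, smul_eq_mul, step_of_unit hdim hV hΛ hy hyN u hu, hsp,
        ordq_mul ((residue_ne_zero_iff_isUnit _).2 u.isUnit) h2]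
      linear_combination h1
    · have hyx : y ∉ N ⊔ Submodule.span Rq {x} := fun h => hxy (mem_sup_comm hx hyN h)
      have hl := len_sup_eq hy hyN hN
      cases n with
      | zero =>
        exact absurd ((len_eq_zero_iff.1 (by simpa using hl)).symm ▸ Submodule.mem_top) hxy
      | succ m =>
        obtain ⟨t₂, h₂a, h₂g⟩ := exists_good (len_sup_eq (hx.mono le_sup_left) hxy hl)
        have h₁ := (admR_cons_iff x t₂).2 ⟨hx.mono le_sup_left, h₂a⟩
        have h₁g := (good_cons_iff x t₂).2 ⟨hxy, h₂g⟩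
        rw [sup_right_comm] at h₂a h₂g
        have h₂ := (admR_cons_iff y t₂).2 ⟨hy.mono le_sup_left, h₂a⟩
        have h₂g' := (good_cons_iff y t₂).2 ⟨hyx, h₂g⟩
        rw [same hx hxN _ t h₂ h₂g' hta htg, ← same hy hyN s _ hsa hsg h₁ h₁g,
          eq_neg_of_add_eq_zero_left (hψ.1.swap_head t₂ hx hy h₂a), ordq_neg]
        simp only [omega_cons]
        rw [sup_right_comm N (Submodule.span Rq {y})]
        have e1 := step_swap hdim hV hΛ hy hyx
        have e2 := step_swap hdim hV hΛ hx hxy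
        rw [sup_right_comm N (Submodule.span Rq {y}), sup_comm (Submodule.span R {y})] at e2
        linear_combination e2 - e1

end Groth.Agent.Lib.CycDet.Omega
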