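import Groth.Agent.Lib.CycDet.Flag
import Mathlib.Tactic.LinearCombination

/-!
# Functions on admissible tuples satisfying the admissible relations

Uniqueness up to scalar (`mem_span_of_good`) and existence (`exists_detFun`) of such functions, nonzero on
good tuples.
-/

set_option autoImplicit false
set_option linter.unusedSectionVars false

universe u v w

namespace Groth.Agent.Lib.CycDet

open IsLocalRing

variable {R : Type u} [CommRing R] [IsLocalRing R] {M : Type v} [AddCommGroup M] [Module R M]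
  {V : Type w} [AddCommGroup V] [Module (ResidueField R) V] {N : Submodule R M} {l : ℕ}

/-- A function on tuples satisfying the three admissible relations relative to `N`. -/
structure RelFun (N : Submodule R M) (l : ℕ) (ψ : (Fin l → M) → V) : Prop where
  zero : ∀ e, AdmR N e → ∀ a : Fin l, e a ∈ SB N e a → ψ e = 0
  smul : ∀ e e', AdmR N e → AdmR N e' → ∀ (a : Fin l) (c : Rˣ), (∀ j, j ≠ a → e j = e' j) →
    e a - (c : R) • e' a ∈ SB N e a → ψ e = residue R (c : R) • ψ e'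
  swap : ∀ e e', AdmR N e → AdmR N e' → ∀ a b : Fin l, (b : ℕ) + 1 = (a : ℕ) → Soc (SB N e b) (e a) →
    e' = e ∘ Equiv.swap a b → ψ e + ψ e' = 0

theorem sup_span_eq_of_sub_mem {x y : M} (u : Rˣ) (h : x - (u : R) • y ∈ N) :
    N ⊔ Submodule.span R {x} = N ⊔ Submodule.span R {y} := by
  have key : ∀ {x y : M} (u : Rˣ), x - (u : R) • y ∈ N →
      N ⊔ Submodule.span R {x} ≤ N ⊔ Submodule.span R {y} := by
    intro x y u h
    refine sup_le le_sup_left ((Submodule.span_singleton_le_iff_mem _ _).2 ?_)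
    rw [← sub_add_cancel x ((u : R) • y)]
    exact add_mem (Submodule.mem_sup_left h)
      (Submodule.smul_mem _ _ (Submodule.mem_sup_right (Submodule.mem_span_singleton_self y)))
  refine le_antisymm (key u h) (key u⁻¹ ?_)
  have := N.smul_mem (-(↑u⁻¹ : R)) h
  rwa [smul_sub, smul_smul, neg_mul, Units.inv_mul, neg_smul, neg_smul, one_smul, sub_neg_eq_add, add_comm,
    ← sub_eq_add_neg] at this

theorem exists_sub_smul_mem {x y : M} (h : x ∈ N ⊔ Submodule.span R {y}) : ∃ a : R, x - a • y ∈ N := by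
  obtain ⟨z, hz, w, hw, rfl⟩ := Submodule.mem_sup.1 h
  obtain ⟨a, rfl⟩ := Submodule.mem_span_singleton.1 hw
  exact ⟨a, by simpa using hz⟩

theorem mem_sup_of_sub_smul_mem {x y : M} {a : R} (h : x - a • y ∈ N) : x ∈ N ⊔ Submodule.span R {y} := by
  rw [← sub_add_cancel x (a • y)]
  exact add_mem (Submodule.mem_sup_left h)
    (Submodule.smul_mem _ _ (Submodule.mem_sup_right (Submodule.mem_span_singleton_self y)))

/-- In the socle, the coefficient of an element outside `N` is a unit. -/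
theorem exists_unit_sub_smul_mem {x y : M} (hy : Soc N y) (hx : x ∉ N) (h : x ∈ N ⊔ Submodule.span R {y}) :
    ∃ u : Rˣ, x - (u : R) • y ∈ N := by
  obtain ⟨a, ha⟩ := exists_sub_smul_mem h
  refine ⟨(hy.unit_of_smul_notMem (a := a) fun h' => hx ?_).unit, ha⟩
  simpa using add_mem ha h'

theorem mem_sup_comm {x y : M} (hy : Soc N y) (hx : x ∉ N) (h : x ∈ N ⊔ Submodule.span R {y}) :
    y ∈ N ⊔ Submodule.span R {x} := by
  obtain ⟨u, hu⟩ := exists_unit_sub_smul_mem hy hx h
  rw [sup_span_eq_of_sub_mem u hu]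
  exact Submodule.mem_sup_right (Submodule.mem_span_singleton_self y)

theorem SB_one (e : Fin (l + 1) → M) : SB N e 1 = N ⊔ Submodule.span R {e 0} := by
  obtain ⟨x, t, rfl⟩ : ∃ x t, e = Fin.cons x t := ⟨e 0, Fin.tail e, (Fin.cons_self_tail e).symm⟩
  rw [SB_cons_succ x t 0, SB_zero, Fin.cons_zero]

theorem cons_comp_swap_succ (x : M) (t : Fin l → M) (a b : Fin l) :
    (Fin.cons x t : Fin (l + 1) → M) ∘ Equiv.swap a.succ b.succ = Fin.cons x (t ∘ Equiv.swap a b) := by
  funext j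
  refine Fin.cases ?_ (fun j => ?_) j
  · simp [Equiv.swap_apply_of_ne_of_ne (Fin.succ_ne_zero a).symm (Fin.succ_ne_zero b).symm]
  · simp [(Fin.succ_injective l).swap_apply]

theorem cons_comp_swap_one_zero (x y : M) (t : Fin l → M) :
    (Fin.cons x (Fin.cons y t) : Fin (l + 2) → M) ∘ Equiv.swap (Fin.succ 0) 0 = Fin.cons y (Fin.cons x t) := by
  funext j
  refine Fin.cases ?_ (Fin.cases ?_ fun j => ?_) j
  · simp
  · simp
  · have h : Equiv.swap (Fin.succ (0 : Fin (l + 1))) 0 j.succ.succ = j.succ.succ :=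
      Equiv.swap_apply_of_ne_of_ne (fun h => Fin.succ_ne_zero j (Fin.succ_injective _ h)) (Fin.succ_ne_zero _)
    simp only [Function.comp_apply, h, Fin.cons_succ]

namespace RelFun

variable {ψ : (Fin (l + 1) → M) → V} (hψ : RelFun N (l + 1) ψ)
include hψ

theorem cons {x : M} (hx : Soc N x) : RelFun (N ⊔ Submodule.span R {x}) l (fun t => ψ (Fin.cons x t)) where
  zero t ht a ha := hψ.zero _ ((admR_cons_iff x t).2 ⟨hx, ht⟩) a.succ (by
    rw [SB_cons_val_succ, Fin.cons_succ]; exact ha)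
  smul t t' ht ht' a c h hc := hψ.smul _ _ ((admR_cons_iff x t).2 ⟨hx, ht⟩) ((admR_cons_iff x t').2 ⟨hx, ht'⟩)
    a.succ c (fun j hj => by
      induction j using Fin.cases with
      | zero => simp
      | succ j => simpa using h j fun e => hj (congrArg Fin.succ e))
    (by rw [SB_cons_val_succ, Fin.cons_succ, Fin.cons_succ]; exact hc)
  swap t t' ht ht' a b hab hs he := hψ.swap _ _ ((admR_cons_iff x t).2 ⟨hx, ht⟩)
    ((admR_cons_iff x t').2 ⟨hx, ht'⟩) a.succ b.succ (by simp [hab])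
    (by rw [SB_cons_val_succ, Fin.cons_succ]; exact hs) (by rw [cons_comp_swap_succ, he])

theorem head_zero {x : M} (t : Fin l → M) (hx : x ∈ N) (ht : AdmR (N ⊔ Submodule.span R {x}) t) :
    ψ (Fin.cons x t) = 0 :=
  hψ.zero _ ((admR_cons_iff x t).2 ⟨fun _ _ => N.smul_mem _ hx, ht⟩) 0 (by
    rw [SB_cons_val_zero, Fin.cons_zero]; exact hx)

theorem head_smul {x y : M} (t : Fin l → M) (u : Rˣ) (hx : Soc N x) (hy : Soc N y)
    (h : x - (u : R) • y ∈ N) (ht : AdmR (N ⊔ Submodule.span R {x}) t) :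
    ψ (Fin.cons x t) = residue R (u : R) • ψ (Fin.cons y t) :=
  hψ.smul _ _ ((admR_cons_iff x t).2 ⟨hx, ht⟩)
    ((admR_cons_iff y t).2 ⟨hy, sup_span_eq_of_sub_mem u h ▸ ht⟩) 0 u (fun j hj => by
      induction j using Fin.cases with
      | zero => exact absurd rfl hj
      | succ j => simp) (by rw [SB_cons_val_zero, Fin.cons_zero, Fin.cons_zero]; exact h)

end RelFun

theorem RelFun.swap_head {ψ : (Fin (l + 2) → M) → V} (hψ : RelFun N (l + 2) ψ) {x y : M} (t : Fin l → M)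
    (hx : Soc N x) (hy : Soc N y) (ht : AdmR (N ⊔ Submodule.span R {x} ⊔ Submodule.span R {y}) t) :
    ψ (Fin.cons x (Fin.cons y t)) + ψ (Fin.cons y (Fin.cons x t)) = 0 := by
  refine hψ.swap _ _ ((admR_cons_iff _ _).2 ⟨hx, (admR_cons_iff _ _).2 ⟨hy.mono le_sup_left, ht⟩⟩)
    ((admR_cons_iff _ _).2 ⟨hy, (admR_cons_iff _ _).2 ⟨hx.mono le_sup_left, by rwa [sup_right_comm]⟩⟩)
    (Fin.succ 0) 0 (by simp) ?_ (cons_comp_swap_one_zero x y t).symm
  rw [SB_cons_val_zero, Fin.cons_succ, Fin.cons_zero]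
  exact hy

/-- **Uniqueness**: the value on a good tuple spans all the values. -/
theorem mem_span_of_good : ∀ {n : ℕ} {N : Submodule R M} (ψ : (Fin n → M) → V), RelFun N n ψ → len N = n →
    ∀ e₀ e, AdmR N e₀ → Good N e₀ → AdmR N e → ∃ r : ResidueField R, ψ e = r • ψ e₀ := by
  intro n
  induction n with
  | zero => exact fun ψ _ _ e₀ e _ _ _ => ⟨1, by rw [one_smul, Subsingleton.elim e e₀]⟩
  | succ n ih =>
    intro N ψ hψ hN e₀ e ha₀ hg₀ ha
    by_cases hg : Good N e
    swap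
    · simp only [Good, not_forall, not_not] at hg
      obtain ⟨a, hm⟩ := hg
      exact ⟨0, by rw [zero_smul]; exact hψ.zero e ha a hm⟩
    obtain ⟨x, t, rfl⟩ : ∃ x t, e = Fin.cons x t := ⟨e 0, Fin.tail e, (Fin.cons_self_tail e).symm⟩
    obtain ⟨y, s, rfl⟩ : ∃ y s, e₀ = Fin.cons y s := ⟨e₀ 0, Fin.tail e₀, (Fin.cons_self_tail e₀).symm⟩
    obtain ⟨hx, hta⟩ := (admR_cons_iff x t).1 ha
    obtain ⟨hxN, htg⟩ := (good_cons_iff x t).1 hg
    obtain ⟨hy, hsa⟩ := (admR_cons_iff y s).1 ha₀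
    obtain ⟨hyN, hsg⟩ := (good_cons_iff y s).1 hg₀
    have same : ∀ {z : M}, Soc N z → z ∉ N → ∀ t₀ t, AdmR (N ⊔ Submodule.span R {z}) t₀ →
        Good (N ⊔ Submodule.span R {z}) t₀ → AdmR (N ⊔ Submodule.span R {z}) t →
        ∃ r : ResidueField R, ψ (Fin.cons z t) = r • ψ (Fin.cons z t₀) := fun {z} hz hzN =>
      ih _ (hψ.cons hz) (len_sup_eq hz hzN hN)
    by_cases hxy : x ∈ N ⊔ Submodule.span R {y}
    · obtain ⟨u, hu⟩ := exists_unit_sub_smul_mem hy hxN hxy
      obtain ⟨r, hr⟩ := same hy hyN s t hsa hsg (sup_span_eq_of_sub_mem u hu ▸ hta)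
      exact ⟨residue R (u : R) * r, by rw [hψ.head_smul t u hx hy hu hta, hr, smul_smul]⟩
    · have hyx : y ∉ N ⊔ Submodule.span R {x} := fun h => hxy (mem_sup_comm hx hyN h)
      have hl := len_sup_eq hy hyN hN
      cases n with
      | zero =>
        exact absurd ((len_eq_zero_iff.1 (by simpa using hl)).symm ▸ Submodule.mem_top) hxy
      | succ m =>
        obtain ⟨t₂, h₂a, h₂g⟩ := exists_good (len_sup_eq (hx.mono le_sup_left) hxy hl)
        have h₁ := (admR_cons_iff x t₂).2 ⟨hx.mono le_sup_left, h₂a⟩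
        have h₁g := (good_cons_iff x t₂).2 ⟨hxy, h₂g⟩
        rw [sup_right_comm] at h₂a h₂g
        have h₂ := (admR_cons_iff y t₂).2 ⟨hy.mono le_sup_left, h₂a⟩
        have h₂g' := (good_cons_iff y t₂).2 ⟨hyx, h₂g⟩
        obtain ⟨r, hr⟩ := same hx hxN _ t h₂ h₂g' hta
        obtain ⟨r', hr'⟩ := same hy hyN s _ hsa hsg h₁
        refine ⟨-r * r', ?_⟩
        have := hψ.swap_head t₂ hx hy h₂a
        rw [hr, eq_neg_of_add_eq_zero_left this, smul_neg, hr', smul_smul, neg_mul, neg_smul]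

/-- Two scalar functions are proportional. -/
theorem proportional {n : ℕ} {N : Submodule R M} {φ ψ : (Fin n → M) → ResidueField R}
    (hφ : RelFun N n φ) (hψ : RelFun N n ψ) (hN : len N = n) {e₀ e : Fin n → M} (ha₀ : AdmR N e₀)
    (hg₀ : Good N e₀) (ha : AdmR N e) : φ e * ψ e₀ = φ e₀ * ψ e := by
  have hp : RelFun N n (fun e => (φ e, ψ e)) :=
    { zero := fun e h a hm => Prod.ext (hφ.zero e h a hm) (hψ.zero e h a hm)
      smul := fun e e' h h' a c hj hc => Prod.ext (hφ.smul e e' h h' a c hj hc) (hψ.smul e e' h h' a c hj hc)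
      swap := fun e e' h h' a b hab hs he => Prod.ext (hφ.swap e e' h h' a b hab hs he) (hψ.swap e e' h h' a b hab hs he) }
  obtain ⟨r, hr⟩ := mem_span_of_good _ hp hN e₀ e ha₀ hg₀ ha
  have h1 : φ e = r * φ e₀ := congrArg Prod.fst hr
  have h2 : ψ e = r * ψ e₀ := congrArg Prod.snd hr
  rw [h1, h2]; ring

theorem RelFun.linComb {φ ψ : (Fin l → M) → ResidueField R} (hφ : RelFun N l φ) (hψ : RelFun N l ψ)
    (a b : ResidueField R) : RelFun N l (fun e => a * φ e + b * ψ e) where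
  zero e h i hm := by simp [hφ.zero e h i hm, hψ.zero e h i hm]
  smul e e' h h' i c hj hc := by
    simp only [hφ.smul e e' h h' i c hj hc, hψ.smul e e' h h' i c hj hc, smul_eq_mul]; ring
  swap e e' h h' i j hab hs he := by
    linear_combination a * hφ.swap e e' h h' i j hab hs he + b * hψ.swap e e' h h' i j hab hs he

theorem eq_zero_of_good {n : ℕ} {N : Submodule R M} {φ : (Fin n → M) → ResidueField R}
    (hφ : RelFun N n φ) (hN : len N = n) {e₀ e : Fin n → M} (ha₀ : AdmR N e₀) (hg₀ : Good N e₀)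
    (h : φ e₀ = 0) (ha : AdmR N e) : φ e = 0 := by
  obtain ⟨r, hr⟩ := mem_span_of_good φ hφ hN e₀ e ha₀ hg₀ ha
  rw [hr, h, smul_zero]

end Groth.Agent.Lib.CycDet
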